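import Mathlib
import Groth.Prelude.Def_Brnch
import Groth.Prelude.Def_Curv2
import Groth.Agent.H22Alg.BranchBound
import Groth.Agent.S7652

/-!
Wedges: finite extensions of local rings whose colength is one less than the number of maximal ideals.
-/

set_option autoImplicit false
set_option linter.style.haveILetI false
universe u

open IsLocalRing

namespace Groth.Agent.H06Wedge

/-- Colength `r - 1` with `r` maximal ideals: trivial residue extensions and the radical lies in the base. -/
theorem wedge_of_length (A B : Type u) [CommRing A] [IsLocalRing A] [CommRing B] [Algebra A B]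
    [Module.Finite A B]
    (h : Module.length A (B ⧸ LinearMap.range (Algebra.linearMap A B)) + 1 = ENat.card (MaximalSpectrum B)) :
    (∀ M : MaximalSpectrum B, Function.Surjective (algebraMap A (B ⧸ M.asIdeal))) ∧
      ∀ b : B, (∃ a : A, ∀ M : MaximalSpectrum B, b - algebraMap A B a ∈ M.asIdeal) →
        b ∈ (algebraMap A B).range := by
  classical
  have := H22Alg.finite_maximalSpectrum_of_finite A B
  let := Fintype.ofFinite (MaximalSpectrum B)
  have hmax : ∀ M : MaximalSpectrum B, ∀ a ∈ maximalIdeal A, algebraMap A (B ⧸ M.asIdeal) a = 0 := by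
    intro M a ha
    rw [← (isMaximal_iff A).mp (Ideal.isMaximal_comap_of_isIntegral_of_isMaximal (R := A) M.asIdeal)] at ha
    exact Ideal.Quotient.eq_zero_iff_mem.mpr ha
  let C := ∀ M : MaximalSpectrum B, B ⧸ M.asIdeal
  let φ : B →ₗ[A] C := LinearMap.pi fun M => (Ideal.Quotient.mkₐ A M.asIdeal).toLinearMap
  have hφ : Function.Surjective φ := fun c => by
    obtain ⟨r, hr⟩ := Ideal.pi_quotient_surjective
      (fun i j hij => Ideal.isCoprime_iff_sup_eq.mpr
        (i.isMaximal.coprime_of_ne j.isMaximal fun h => hij (MaximalSpectrum.ext h))) c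
    exact ⟨r, funext hr⟩
  let N : Submodule A C := LinearMap.range (φ ∘ₗ Algebra.linearMap A B)
  have hN : Module.length A N ≤ 1 := by
    let ψ : (A ⧸ maximalIdeal A) →ₗ[A] C :=
      Submodule.liftQ _ (φ ∘ₗ Algebra.linearMap A B) fun a ha => funext fun M => hmax M a ha
    have hr : LinearMap.range ψ = N := Submodule.range_liftQ _ _ _
    rw [← hr]
    refine (Module.length_le_of_surjective ψ.rangeRestrict ψ.surjective_rangeRestrict).trans ?_
    have : IsSimpleModule A (A ⧸ maximalIdeal A) :=
      isSimpleModule_iff_isCoatom.mpr (Ideal.isMaximal_def.mp inferInstance)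
    exact le_of_eq (Module.length_eq_one A _)
  let q : (B ⧸ LinearMap.range (Algebra.linearMap A B)) →ₗ[A] C ⧸ N :=
    Submodule.mapQ _ N φ (by rintro _ ⟨a, rfl⟩; exact ⟨a, rfl⟩)
  have hq : Function.Surjective q := fun y => by
    obtain ⟨c, rfl⟩ := Submodule.Quotient.mk_surjective _ y
    obtain ⟨b, rfl⟩ := hφ c
    exact ⟨Submodule.Quotient.mk b, rfl⟩
  obtain ⟨L, hL⟩ : ∃ L : ℕ, (L : ℕ∞) = Module.length A (B ⧸ LinearMap.range (Algebra.linearMap A B)) :=
    ENat.ne_top_iff_exists.mp fun htop => by
      rw [htop, top_add, ENat.card_eq_coe_fintype_card] at h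
      exact ENat.top_ne_natCast _ h
  have hr : L + 1 = Fintype.card (MaximalSpectrum B) := by
    rw [← hL, ENat.card_eq_coe_fintype_card] at h
    exact_mod_cast h
  have hpos : ∀ M : MaximalSpectrum B, 1 ≤ Module.length A (B ⧸ M.asIdeal) := fun M =>
    Order.one_le_iff_ne_zero.mpr (Module.length_pos_iff.mpr (Ideal.Quotient.nontrivial_iff.mpr M.isMaximal.ne_top)).ne'
  have hCsum : Module.length A C = ∑ M : MaximalSpectrum B, Module.length A (B ⧸ M.asIdeal) :=
    Module.length_pi_of_fintype A _
  have hC : Module.length A C = Module.length A N + Module.length A (C ⧸ N) :=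
    Module.length_eq_add_of_exact N.subtype N.mkQ N.injective_subtype (Submodule.mkQ_surjective N)
      (LinearMap.exact_subtype_mkQ N)
  have hQ : Module.length A (C ⧸ N) ≤ (L : ℕ∞) := hL ▸ Module.length_le_of_surjective q hq
  have hlo : ((L + 1 : ℕ) : ℕ∞) ≤ Module.length A C := by
    rw [hCsum, hr, Fintype.card, Finset.card_eq_sum_ones, Nat.cast_sum, Nat.cast_one]
    exact Finset.sum_le_sum fun M _ => hpos M
  have hCeq : Module.length A C = ((L + 1 : ℕ) : ℕ∞) :=
    le_antisymm (by rw [hC, Nat.cast_add, Nat.cast_one, add_comm (L : ℕ∞)]; exact add_le_add hN hQ) hlo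
  have hone : ∀ M : MaximalSpectrum B, Module.length A (B ⧸ M.asIdeal) = 1 := by
    intro M
    refine le_antisymm ?_ (hpos M)
    by_contra hM
    have h2 : (2 : ℕ∞) ≤ Module.length A (B ⧸ M.asIdeal) := Order.add_one_le_of_lt (not_le.mp hM)
    have h3 : ((Finset.univ.erase M).card : ℕ∞) ≤ ∑ M' ∈ Finset.univ.erase M, Module.length A (B ⧸ M'.asIdeal) := by
      rw [Finset.card_eq_sum_ones, Nat.cast_sum, Nat.cast_one]
      exact Finset.sum_le_sum fun M' _ => hpos M'
    have h4 := add_le_add h2 h3
    rw [Finset.add_sum_erase _ (fun M' => Module.length A (B ⧸ M'.asIdeal)) (Finset.mem_univ M), ← hCsum, hCeq,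
      Finset.card_erase_of_mem (Finset.mem_univ M), Finset.card_univ, ← hr] at h4
    have h5 : ((2 + (L + 1 - 1) : ℕ) : ℕ∞) ≤ ((L + 1 : ℕ) : ℕ∞) := by exact_mod_cast h4
    have := ENat.natCast_le_natCast.mp h5
    omega
  refine ⟨fun M => ?_, ?_⟩
  · haveI : IsSimpleModule A (B ⧸ M.asIdeal) := Module.length_eq_one_iff.mp (hone M)
    have htop : LinearMap.range (Algebra.linearMap A (B ⧸ M.asIdeal)) = ⊤ := by
      refine (eq_bot_or_eq_top _).resolve_left fun hbot => ?_
      have h1 : (1 : B ⧸ M.asIdeal) ∈ LinearMap.range (Algebra.linearMap A (B ⧸ M.asIdeal)) := ⟨1, (algebraMap A (B ⧸ M.asIdeal)).map_one⟩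
      rw [hbot, Submodule.mem_bot] at h1
      exact M.isMaximal.ne_top ((Ideal.eq_top_iff_one _).mpr (Ideal.Quotient.eq_zero_iff_mem.mp h1))
    exact LinearMap.range_eq_top.mp htop
  · -- the comparison of cokernels is injective
    have hQeq : Module.length A (C ⧸ N) = (L : ℕ∞) := by
      refine le_antisymm hQ ?_
      have h1 : ((L + 1 : ℕ) : ℕ∞) ≤ 1 + Module.length A (C ⧸ N) := by
        rw [← hCeq, hC]; exact add_le_add hN le_rfl
      obtain ⟨c, hc⟩ := ENat.ne_top_iff_exists.mp (ne_top_of_le_ne_top (ENat.natCast_ne_top L) hQ)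
      rw [← hc] at h1 ⊢
      have : L + 1 ≤ 1 + c := by exact_mod_cast h1
      exact_mod_cast (by omega : L ≤ c)
    have hker : Module.length A (LinearMap.ker q) = 0 := by
      have h1 := Module.length_eq_add_of_exact (LinearMap.ker q).subtype q (Submodule.injective_subtype _) hq
        (LinearMap.exact_subtype_ker_map q)
      rw [← hL, hQeq] at h1
      obtain ⟨c, hc⟩ := ENat.ne_top_iff_exists.mp (fun htop : Module.length A (LinearMap.ker q) = ⊤ => by
        rw [htop, top_add] at h1; exact ENat.natCast_ne_top L h1)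
      rw [← hc] at h1 ⊢
      have : L = c + L := by exact_mod_cast h1
      exact_mod_cast (by omega : c = 0)
    rintro b ⟨a, ha⟩
    have hb : q (Submodule.Quotient.mk b) = 0 := by
      rw [Submodule.mapQ_apply, Submodule.Quotient.mk_eq_zero]
      refine ⟨a, funext fun M => ?_⟩
      exact (Ideal.Quotient.eq.mpr (ha M)).symm
    haveI := Module.length_eq_zero_iff.mp hker
    have h0 : (⟨_, hb⟩ : LinearMap.ker q) = 0 := Subsingleton.elim _ _
    obtain ⟨a', ha'⟩ := (Submodule.Quotient.mk_eq_zero _).mp (congrArg Subtype.val h0)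
    exact ⟨a', ha'⟩

variable (A : Type u) [CommRing A] [IsLocalRing A] [IsReduced A]

theorem numBranches_eq_card [IsNoetherianRing A] :
    Brnch.numBranches A = ENat.card (MaximalSpectrum (integralClosure A (FractionRing A))) := by
  obtain ⟨e⟩ := H22Alg.exists_algEquiv_normRed A
  rw [Brnch.numBranches, if_pos (minimalPrimes.finite_of_isNoetherianRing A)]
  exact ENat.card_congr
    { toFun := fun m => ⟨m.asIdeal.comap e.toRingHom, by
        haveI := m.isMaximal; exact Ideal.comap_isMaximal_of_surjective _ e.surjective⟩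
      invFun := fun m => ⟨m.asIdeal.comap e.symm.toRingHom, by
        haveI := m.isMaximal; exact Ideal.comap_isMaximal_of_surjective _ e.symm.surjective⟩
      left_inv := fun m => MaximalSpectrum.ext (Ideal.ext fun z => by simp)
      right_inv := fun m => MaximalSpectrum.ext (Ideal.ext fun z => by simp) }

/-- Over a separably closed residue field every branch is geometric once. -/
theorem numGeomBranches_le_numBranches [IsSepClosed (ResidueField A)] [IsNoetherianRing A] :
    Brnch.numGeomBranches A ≤ Brnch.numBranches A := by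
  rw [Brnch.numBranches, Brnch.numGeomBranches, if_pos (minimalPrimes.finite_of_isNoetherianRing A),
    if_pos (minimalPrimes.finite_of_isNoetherianRing A)]
  refine ENat.card_le_card_of_injective (f := Sigma.fst) ?_
  rintro ⟨m, σ⟩ ⟨m', σ'⟩ rfl
  refine Sigma.ext rfl (heq_of_eq (Subtype.ext ?_))
  let F := CAlg2.normRed A ⧸ m.asIdeal
  letI : Field F := Ideal.Quotient.field m.asIdeal
  let r : A →+* F := Brnch.toResidue A m
  have hint : r.IsIntegral := by
    have h1 : (algebraMap (CAlg2.red A) (CAlg2.normRed A)).IsIntegral := fun x => Algebra.IsIntegral.isIntegral x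
    have h2 : ((algebraMap (CAlg2.red A) (CAlg2.normRed A)).comp (Ideal.Quotient.mk (nilradical A))).IsIntegral :=
      RingHom.IsIntegral.trans _ _ (RingHom.isIntegral_of_surjective _ Ideal.Quotient.mk_surjective) h1
    exact RingHom.IsIntegral.trans _ _ h2 (RingHom.isIntegral_of_surjective _ Ideal.Quotient.mk_surjective)
  have hkill : ∀ a ∈ maximalIdeal A, r a = 0 := by
    intro a ha
    letI := r.toAlgebra
    haveI : Algebra.IsIntegral A F := ⟨hint⟩
    haveI : (⊥ : Ideal F).IsMaximal := Ideal.bot_isMaximal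
    have := IsLocalRing.eq_maximalIdeal (Ideal.isMaximal_comap_of_isIntegral_of_isMaximal (R := A) (⊥ : Ideal F))
    rw [← this] at ha
    exact ha
  letI : Algebra (ResidueField A) F := (Ideal.Quotient.lift (maximalIdeal A) r hkill).toAlgebra
  haveI : Algebra.IsIntegral (ResidueField A) F := ⟨fun x => by
    obtain ⟨p, hp, hx⟩ := hint x
    refine ⟨p.map (residue A), hp.map _, ?_⟩
    rw [Polynomial.eval₂_map]
    exact hx⟩
  haveI : IsPurelyInseparable (ResidueField A) F := inferInstance
  let mkHom : {τ : F →+* AlgebraicClosure (ResidueField A) // τ.comp r = Brnch.toClosure A} →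
      (F →ₐ[ResidueField A] AlgebraicClosure (ResidueField A)) := fun τ =>
    { τ.1 with
      commutes' := fun x => by
        obtain ⟨a, rfl⟩ := Ideal.Quotient.mk_surjective x
        exact RingHom.congr_fun τ.2 a }
  exact RingHom.ext fun x => AlgHom.congr_fun (Subsingleton.elim (mkHom σ) (mkHom σ')) x

/-- `δ + 1` bounds the branches; equality forces the wedge conditions. -/
theorem numBranches_le_deltaInv_add_one (hN : CAlg.IsNagata A) (hdim : ringKrullDim A = 1) :
    Brnch.numBranches A ≤ Curv2.deltaInv A + 1 := by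
  haveI : IsNoetherianRing A := hN.1
  obtain ⟨hfin, -, -⟩ := Groth.Agent.S7652.result A hN hdim
  let B := integralClosure A (FractionRing A)
  haveI : Module.Finite A B := hfin
  have hsur : ∀ M : MaximalSpectrum B, Nonempty {σ : B ⧸ M.asIdeal →+* AlgebraicClosure (ResidueField A) //
      σ.comp (algebraMap A (B ⧸ M.asIdeal)) =
        (algebraMap (ResidueField A) (AlgebraicClosure (ResidueField A))).comp (residue A)} := by
    intro M
    let F := B ⧸ M.asIdeal
    letI : Field F := Ideal.Quotient.field M.asIdeal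
    have hkill : ∀ a ∈ maximalIdeal A, algebraMap A F a = 0 := by
      intro a ha
      rw [← (isMaximal_iff A).mp (Ideal.isMaximal_comap_of_isIntegral_of_isMaximal (R := A) M.asIdeal)] at ha
      exact Ideal.Quotient.eq_zero_iff_mem.mpr ha
    letI : Algebra (ResidueField A) F := (Ideal.Quotient.lift (maximalIdeal A) (algebraMap A F) hkill).toAlgebra
    haveI : Algebra.IsIntegral (ResidueField A) F := ⟨fun x => by
      obtain ⟨p, hp, hx⟩ := (Algebra.IsIntegral.isIntegral (R := A) x : _root_.IsIntegral A (x : F))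
      refine ⟨p.map (residue A), hp.map _, ?_⟩
      rw [Polynomial.eval₂_map]
      exact hx⟩
    let τ : F →ₐ[ResidueField A] AlgebraicClosure (ResidueField A) := IsAlgClosed.lift
    exact ⟨⟨τ.toRingHom, RingHom.ext fun a => τ.commutes (residue A a)⟩⟩
  rw [numBranches_eq_card A]
  refine le_trans ?_ (H22Alg.card_sigma_emb_le_length_add_one A B)
  exact ENat.card_le_card_of_injective (f := fun M => ⟨M, (hsur M).some⟩) fun M M' h => congrArg Sigma.fst h

end Groth.Agent.H06Wedge
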