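import Mathlib
import Groth.Prelude.Def_Curv2

/-!
The multicross ring: series with a common constant term inside a power of a power series ring.
-/

set_option autoImplicit false
set_option linter.style.haveILetI false
universe u

open IsLocalRing nonZeroDivisors

namespace Groth.Agent.H06Wedge

/-- The maximal ideals of a power of a power series ring. -/
theorem card_maximalSpectrum_pi (k : Type u) [Field k] (n : ℕ) :
    ENat.card (MaximalSpectrum (Fin n → PowerSeries k)) = n := by
  classical
  let P := Fin n → PowerSeries k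
  let ε : Fin n → P →+* k := fun i => (PowerSeries.constantCoeff).comp (Pi.evalRingHom _ i)
  have hε : ∀ i, Function.Surjective (ε i) := fun i c =>
    ⟨fun _ => PowerSeries.C c, PowerSeries.constantCoeff_C c⟩
  let F : Fin n → MaximalSpectrum P := fun i => ⟨RingHom.ker (ε i), RingHom.ker_isMaximal_of_surjective _ (hε i)⟩
  have hF : Function.Bijective F := by
    refine ⟨fun i j h => ?_, fun M => ?_⟩
    · by_contra hij
      have h1 : (Pi.single j 1 : P) ∈ RingHom.ker (ε i) := by
        simp [ε, RingHom.mem_ker, Pi.single_eq_of_ne hij]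
      rw [show RingHom.ker (ε i) = RingHom.ker (ε j) from congrArg MaximalSpectrum.asIdeal h] at h1
      simp [ε, RingHom.mem_ker] at h1
    · haveI := M.isMaximal
      obtain ⟨i, hi⟩ : ∃ i, (Pi.single i 1 : P) ∉ M.asIdeal := by
        by_contra! hall
        refine M.isMaximal.ne_top ((Ideal.eq_top_iff_one _).mpr ?_)
        have := M.asIdeal.sum_mem (t := Finset.univ) fun i _ => hall i
        have h1 : ∑ i, (Pi.single i 1 : P) = 1 := Finset.univ_sum_single (1 : Fin n → PowerSeries k)
        rwa [h1] at this
      refine ⟨i, MaximalSpectrum.ext (M.isMaximal.eq_of_le (Ideal.IsMaximal.ne_top (F i).isMaximal) fun f hf => ?_).symm⟩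
      show PowerSeries.constantCoeff (f i) = 0
      by_contra hne
      refine hi ?_
      obtain ⟨v, hv⟩ := (PowerSeries.isUnit_iff_constantCoeff.mpr (isUnit_iff_ne_zero.mpr hne)).exists_right_inv
      have h2 := M.asIdeal.mul_mem_right (Pi.single i v) hf
      have h3 : f * Pi.single i v = Pi.single i 1 := by
        funext j
        rcases eq_or_ne j i with rfl | hj
        · rw [Pi.mul_apply, Pi.single_eq_same, Pi.single_eq_same, hv]
        · rw [Pi.mul_apply, Pi.single_eq_of_ne hj, Pi.single_eq_of_ne hj, mul_zero]
      rwa [h3] at h2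
  rw [← ENat.card_congr (Equiv.ofBijective F hF), ENat.card_eq_coe_fintype_card, Fintype.card_fin]

/-- The colength of the diagonal: an algebra surjecting onto `kⁿ`, the base being the preimage of
the diagonal. -/
theorem length_coker (k : Type u) [Field k] (B : Type u) [CommRing B] (P : Type u) [CommRing P] [Algebra B P]
    (n : ℕ) [NeZero n] (Φ : P →+* (Fin n → k)) (hΦ : Function.Surjective Φ)
    (εB : B →+* k) (hεs : Function.Surjective εB) (hcomp : ∀ b i, Φ (algebraMap B P b) i = εB b)
    (hpre : ∀ f, (∃ c, Φ f = fun _ => c) → f ∈ LinearMap.range (Algebra.linearMap B P)) :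
    Module.length B (P ⧸ LinearMap.range (Algebra.linearMap B P)) + 1 = n := by
  letI : Algebra B k := εB.toAlgebra
  let i₀ : Fin n := ⟨0, NeZero.pos n⟩
  let W := Fin n → k
  let Φ' : P →ₗ[B] W :=
    { toFun := fun f => Φ f
      map_add' := map_add Φ
      map_smul' := fun b f => funext fun i => by
        show Φ (b • f) i = εB b * Φ f i
        rw [Algebra.smul_def, map_mul, Pi.mul_apply, hcomp] }
  let D : Submodule B W := LinearMap.range (Algebra.linearMap B W)
  have hs : Function.Surjective (D.mkQ.comp Φ') := fun y => by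
    obtain ⟨w, rfl⟩ := D.mkQ_surjective y
    obtain ⟨f, hf⟩ := hΦ w
    exact ⟨f, congrArg D.mkQ hf⟩
  have hker : LinearMap.ker (D.mkQ.comp Φ') = LinearMap.range (Algebra.linearMap B P) := by
    ext f
    rw [LinearMap.mem_ker, LinearMap.comp_apply, Submodule.mkQ_apply, Submodule.Quotient.mk_eq_zero]
    constructor
    · rintro ⟨b, hb⟩
      exact hpre f ⟨εB b, hb.symm⟩
    · rintro ⟨b, rfl⟩
      exact ⟨b, funext fun i => (hcomp b i).symm⟩
  rw [((Submodule.quotEquivOfEq _ _ hker).symm.trans (LinearMap.quotKerEquivOfSurjective _ hs)).length_eq]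
  have hk1 : Module.length B k = 1 := by
    rw [Module.length_eq_of_surjective (R := k) (S := B) hεs, Module.length_eq_finrank, Module.finrank_self,
      Nat.cast_one]
  have hD : Module.length B D = 1 := by
    let d : k →ₗ[B] W := LinearMap.pi fun _ => LinearMap.id
    have hd : LinearMap.range d = D := by
      ext w
      constructor
      · rintro ⟨z, rfl⟩
        obtain ⟨b, rfl⟩ := hεs z
        exact ⟨b, rfl⟩
      · rintro ⟨b, rfl⟩
        exact ⟨algebraMap B k b, rfl⟩
    rw [← hd, ← (LinearEquiv.ofInjective d fun a b h => congrFun h i₀).length_eq, hk1]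
  have hW := Module.length_eq_add_of_exact D.subtype D.mkQ D.injective_subtype (Submodule.mkQ_surjective D)
    (LinearMap.exact_subtype_mkQ D)
  rw [Module.length_pi_of_fintype, hD] at hW
  simp only [hk1, Finset.sum_const, Finset.card_univ, Fintype.card_fin, nsmul_eq_mul, mul_one] at hW
  rw [add_comm, ← hW]

/-- The invariants of a multicross ring with at least one branch. -/
theorem multicross_invariants (k : Type u) [Field k] (B : Type u) [CommRing B] (n : ℕ) [NeZero n]
    (θ : B →+* (Fin n → PowerSeries k)) (hinj : Function.Injective θ)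
    (hr : Set.range θ = {f | ∀ i j, PowerSeries.constantCoeff (f i) = PowerSeries.constantCoeff (f j)}) :
    Curv2.deltaInv B + 1 = n ∧ ENat.card (MaximalSpectrum (integralClosure B (FractionRing B))) = n := by
  classical
  let P := Fin n → PowerSeries k
  letI algP : Algebra B P := θ.toAlgebra
  let K := FractionRing B
  haveI : Nontrivial B := θ.domain_nontrivial
  have hmem : ∀ f : P, (∀ i, PowerSeries.constantCoeff (f i) = 0) → ∃ b, θ b = f := fun f hf =>
    (Set.ext_iff.mp hr f).mpr fun i j => (hf i).trans (hf j).symm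
  let tv : P := fun _ => PowerSeries.X
  have htv : ∀ f : P, ∃ b, θ b = f * tv := fun f => hmem _ fun i => by
    rw [Pi.mul_apply, map_mul, PowerSeries.constantCoeff_X, mul_zero]
  choose c hc using htv
  have hu : θ (c 1) = tv := by rw [hc, one_mul]
  have hureg : c 1 ∈ B⁰ := mem_nonZeroDivisors_iff_right.mpr fun x hx => hinj (by
    have h := congrArg θ hx
    rw [map_mul, hu, map_zero] at h
    rw [map_zero]
    funext i
    exact (mul_eq_zero.mp (congrFun h i)).resolve_right PowerSeries.X_ne_zero)
  have hreg : ∀ (s : B⁰) i, θ s i ≠ 0 := by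
    intro s i h0
    obtain ⟨b, hb⟩ := hmem (Pi.single i PowerSeries.X) fun j => by
      rcases eq_or_ne j i with rfl | hj
      · simp [PowerSeries.constantCoeff_X]
      · simp [Pi.single_eq_of_ne hj]
    have h1 : b * s = 0 := hinj (by
      rw [map_mul, hb, map_zero]
      funext j
      rcases eq_or_ne j i with rfl | hj
      · simp [h0]
      · simp [Pi.single_eq_of_ne hj])
    have h2 := mem_nonZeroDivisors_iff_right.mp s.2 b h1
    rw [h2, map_zero] at hb
    exact (PowerSeries.X_ne_zero (R := k)) (by simpa using (congrFun hb i).symm)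
  have huK : IsUnit (algebraMap B K (c 1)) := IsLocalization.map_units K (⟨c 1, hureg⟩ : B⁰)
  let μf : P → K := fun f => IsLocalization.mk' K (c f) (⟨c 1, hureg⟩ : B⁰)
  have hμ : ∀ f, μf f * algebraMap B K (c 1) = algebraMap B K (c f) := fun f => IsLocalization.mk'_spec K _ _
  have hμC : ∀ b, μf (θ b) = algebraMap B K b := fun b => huK.mul_right_cancel (by
    rw [hμ, ← map_mul, hinj ((hc _).trans (by rw [map_mul, hu]) : θ (c (θ b)) = θ (b * c 1))])
  let μ : P →ₐ[B] K :=
    { toFun := μf
      map_one' := by rw [← map_one θ, hμC, map_one]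
      map_mul' := fun f g => (huK.mul huK).mul_right_cancel (by
        rw [← mul_assoc, hμ, mul_mul_mul_comm, hμ, hμ, ← map_mul, ← map_mul]
        congr 1
        refine hinj ?_
        simp only [map_mul, hc]
        ring)
      map_zero' := by rw [← map_zero θ, hμC, map_zero]
      map_add' := fun f g => huK.mul_right_cancel (by
        rw [add_mul, hμ, hμ, hμ, ← map_add]
        congr 1
        refine hinj ?_
        simp only [map_add, hc]
        ring)
      commutes' := hμC }
  have hμinj : Function.Injective μ := by
    refine (injective_iff_map_eq_zero μ).mpr fun f hf => ?_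
    have h1 : c f = 0 := IsFractionRing.injective B K (by
      rw [← hμ, show μf f = 0 from hf, zero_mul, map_zero])
    have h2 := hc f
    rw [h1, map_zero] at h2
    funext i
    exact (mul_eq_zero.mp (congrFun h2 i).symm).resolve_right PowerSeries.X_ne_zero
  have hint : ∀ f : P, _root_.IsIntegral B f := by
    intro f
    have hidem : ∀ i, _root_.IsIntegral B (Pi.single i 1 : P) := fun i => by
      refine ⟨Polynomial.X ^ 2 - Polynomial.X,
        Polynomial.monic_X_pow_sub (Polynomial.degree_X_le.trans_lt (by norm_num)), ?_⟩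
      rw [Polynomial.eval₂_sub, Polynomial.eval₂_pow, Polynomial.eval₂_X, sq, ← Pi.single_mul]
      simp
    let q : Fin n → P := fun i => Pi.single i 1 * fun _ => PowerSeries.C (PowerSeries.constantCoeff (f i))
    have hq : ∀ i, _root_.IsIntegral B (q i) := fun i => by
      obtain ⟨b, hb⟩ := (Set.ext_iff.mp hr (fun _ => PowerSeries.C (PowerSeries.constantCoeff (f i)))).mpr
        fun _ _ => rfl
      exact (hidem i).mul (hb ▸ isIntegral_algebraMap)
    obtain ⟨b, hb⟩ := hmem (f - ∑ i, q i) fun j => by
      rw [Pi.sub_apply, Finset.sum_apply, map_sub, map_sum, Finset.sum_eq_single j]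
      · simp only [q]
        rw [Pi.mul_apply, Pi.single_eq_same, one_mul, PowerSeries.constantCoeff_C, sub_self]
      · intro i _ hij
        simp only [q]
        rw [Pi.mul_apply, Pi.single_eq_of_ne hij.symm, zero_mul, map_zero]
      · simp
    have h1 : f = algebraMap B P b + ∑ i, q i := by
      show f = θ b + _
      rw [hb, sub_add_cancel]
    rw [h1]
    exact isIntegral_algebraMap.add (IsIntegral.sum _ fun i _ => hq i)
  have hrange : μ.range = integralClosure B K := by
    refine le_antisymm ?_ fun x hx => ?_
    · rintro _ ⟨f, rfl⟩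
      exact (hint f).map μ
    obtain ⟨p, hp, hpx⟩ := hx
    obtain ⟨⟨a, s⟩, has⟩ := IsLocalization.surj B⁰ x
    simp only at has
    have hcomp : ∀ i, ∃ g : PowerSeries k, g * θ s i = θ a i := by
      intro i
      let L := FractionRing (PowerSeries k)
      let ρ₀ : B →+* L := (algebraMap (PowerSeries k) L).comp ((Pi.evalRingHom _ i).comp θ)
      let ρ : K →+* L := IsLocalization.lift (M := B⁰) (g := ρ₀) fun y => Ne.isUnit fun h0 => by
        rw [RingHom.comp_apply, map_eq_zero_iff _ (IsFractionRing.injective (PowerSeries k) L)] at h0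
        exact hreg y i h0
      have hρ : ∀ y, ρ (algebraMap B K y) = ρ₀ y := fun y => IsLocalization.lift_eq _ y
      have hi : _root_.IsIntegral (PowerSeries k) (ρ x) := by
        refine ⟨p.map ((Pi.evalRingHom _ i).comp θ), hp.map _, ?_⟩
        rw [Polynomial.eval₂_map, show (algebraMap (PowerSeries k) L).comp ((Pi.evalRingHom _ i).comp θ) =
          ρ.comp (algebraMap B K) from RingHom.ext fun y => (hρ y).symm, ← Polynomial.hom_eval₂, hpx, map_zero]
      obtain ⟨g, hg⟩ := IsIntegrallyClosed.isIntegral_iff.mp hi
      refine ⟨g, IsFractionRing.injective (PowerSeries k) L ?_⟩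
      rw [map_mul, hg]
      show ρ x * ρ₀ s = ρ₀ a
      rw [← hρ, ← map_mul, has, hρ]
    choose g hg using hcomp
    refine ⟨g, ((IsLocalization.map_units K s).mul huK).mul_right_cancel ?_⟩
    show μf g * (algebraMap B K s * algebraMap B K (c 1)) = x * (algebraMap B K s * algebraMap B K (c 1))
    rw [← mul_assoc x, has, ← map_mul _ a, mul_comm (algebraMap B K s), ← mul_assoc, hμ, ← map_mul]
    congr 1
    refine hinj ?_
    rw [map_mul, map_mul, hc, hu]
    funext i
    simp only [Pi.mul_apply, ← hg i, tv]
    show g i * PowerSeries.X * θ s i = _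
    ring
  let e : P ≃ₐ[B] integralClosure B K :=
    (AlgEquiv.ofInjective μ hμinj).trans (Subalgebra.equivOfEq _ _ hrange)
  refine ⟨?_, ?_⟩
  swap
  · rw [← card_maximalSpectrum_pi k n]
    exact ENat.card_congr
      { toFun := fun m => ⟨m.asIdeal.comap e.toRingHom, by
          haveI := m.isMaximal; exact Ideal.comap_isMaximal_of_surjective _ e.surjective⟩
        invFun := fun m => ⟨m.asIdeal.comap e.symm.toRingHom, by
          haveI := m.isMaximal; exact Ideal.comap_isMaximal_of_surjective _ e.symm.surjective⟩
        left_inv := fun m => MaximalSpectrum.ext (Ideal.ext fun z => by simp)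
        right_inv := fun m => MaximalSpectrum.ext (Ideal.ext fun z => by simp) }
  -- the colength
  let i₀ : Fin n := ⟨0, NeZero.pos n⟩
  let Φ : P →+* (Fin n → k) := RingHom.pi fun i => PowerSeries.constantCoeff.comp (Pi.evalRingHom _ i)
  let εB : B →+* k := (Pi.evalRingHom _ i₀).comp (Φ.comp θ)
  have hεs : Function.Surjective εB := fun d => by
    obtain ⟨b, hb⟩ := (Set.ext_iff.mp hr (fun _ => PowerSeries.C d)).mpr fun _ _ => rfl
    exact ⟨b, by show PowerSeries.constantCoeff (θ b i₀) = d; rw [hb, PowerSeries.constantCoeff_C]⟩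
  have hlen := length_coker k B P n Φ (fun w => ⟨fun i => PowerSeries.C (w i), funext fun i => PowerSeries.constantCoeff_C _⟩)
    εB hεs (fun b i => (Set.ext_iff.mp hr (θ b)).mp ⟨b, rfl⟩ i i₀) (fun f ⟨c', hc'⟩ =>
      (Set.ext_iff.mp hr f).mpr fun i j => (congrFun hc' i).trans (congrFun hc' j).symm)
  have hmap : (LinearMap.range (Algebra.linearMap B P)).map (e.toLinearEquiv : P →ₗ[B] integralClosure B K) =
      LinearMap.range (Algebra.linearMap B (integralClosure B K)) := by
    rw [← LinearMap.range_comp]
    congr 1
    exact LinearMap.ext fun b => e.commutes b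
  rw [(Submodule.Quotient.equiv _ _ e.toLinearEquiv hmap).length_eq] at hlen
  exact hlen

end Groth.Agent.H06Wedge
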