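import Mathlib

/-!
The multicross quotient of a multivariate power series ring embeds into a power of `k[[t]]`.
-/

set_option autoImplicit false
set_option linter.style.haveILetI false
universe u

open Finsupp

namespace Groth.Agent.H06Wedge

theorem eq_of_single {σ : Type*} {i j : σ} {d : σ →₀ ℕ} (hi : d = single i (d i)) (hj : d = single j (d j))
    (hd : d ≠ 0) : i = j := by
  classical
  by_contra h
  refine hd ?_
  have h1 : d j = 0 := by
    have := DFunLike.congr_fun hi j
    rwa [single_eq_of_ne (Ne.symm h)] at this
  rw [hj, h1, single_zero]

/-- Restriction to the axes: the kernel is generated by the products of distinct variables and the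
range consists of the families of series with a common constant term. -/
theorem exists_axes (k : Type u) [Field k] (n : ℕ) [NeZero n] :
    ∃ θ : MvPowerSeries (Fin n) k →+* (Fin n → PowerSeries k),
      (∀ c, θ (MvPowerSeries.C c) = fun _ => PowerSeries.C c) ∧
      RingHom.ker θ = Ideal.span {f : MvPowerSeries (Fin n) k |
        ∃ i j : Fin n, i ≠ j ∧ f = MvPowerSeries.X i * MvPowerSeries.X j} ∧
      Set.range θ = {f | ∀ i j, PowerSeries.constantCoeff (f i) = PowerSeries.constantCoeff (f j)} := by
  classical
  let i₀ : Fin n := ⟨0, NeZero.pos n⟩
  let e : MvPowerSeries (Fin n) k → Fin n → PowerSeries k := fun f i =>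
    PowerSeries.mk fun m => MvPowerSeries.coeff (single i m) f
  have heC : ∀ c, e (MvPowerSeries.C c) = fun _ => PowerSeries.C c := fun c => funext fun i => by
    ext m
    simp only [e, PowerSeries.coeff_mk, MvPowerSeries.coeff_C, PowerSeries.coeff_C, single_eq_zero]
  let θ : MvPowerSeries (Fin n) k →+* (Fin n → PowerSeries k) :=
    { toFun := e
      map_one' := by rw [← map_one MvPowerSeries.C, heC, map_one]; rfl
      map_zero' := by rw [← map_zero MvPowerSeries.C, heC, map_zero]; rfl
      map_add' := fun f g => funext fun i => by
        ext m
        simp [e, map_add]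
      map_mul' := fun f g => funext fun i => by
        ext m
        rw [Pi.mul_apply, PowerSeries.coeff_mul]
        simp only [e, PowerSeries.coeff_mk, MvPowerSeries.coeff_mul]
        rw [Finsupp.antidiagonal_single, Finset.sum_map]
        rfl }
  have hco : ∀ (f : MvPowerSeries (Fin n) k) i m, PowerSeries.coeff m (θ f i) = MvPowerSeries.coeff (single i m) f :=
    fun f i m => PowerSeries.coeff_mk m fun m => MvPowerSeries.coeff (single i m) f
  let Pr := {q : Fin n × Fin n // q.1 ≠ q.2}
  refine ⟨θ, heC, ?_, Set.ext fun F => ⟨?_, fun hF => ?_⟩⟩
  · apply le_antisymm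
    · intro f hf
      have hpure : ∀ i m, MvPowerSeries.coeff (single i m) f = 0 := fun i m => by
        rw [← hco, RingHom.mem_ker.mp hf, Pi.zero_apply, map_zero]
      -- a pair of variables in the support of each mixed exponent
      have hex : ∀ d : Fin n →₀ ℕ, (¬ ∃ i, d = single i (d i)) →
          ∃ p : Pr, 1 ≤ d p.1.1 ∧ 1 ≤ d p.1.2 := by
        intro d hd
        by_contra hcon
        push Not at hcon
        obtain ⟨i, hi⟩ : ∃ i, 1 ≤ d i := by
          by_contra! h0
          refine hd ⟨i₀, Finsupp.ext fun j => ?_⟩
          have := h0 j
          have := h0 i₀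
          rcases eq_or_ne j i₀ with rfl | hj
          · simp
          · rw [single_eq_of_ne hj]; omega
        refine hd ⟨i, Finsupp.ext fun j => ?_⟩
        rcases eq_or_ne j i with rfl | hj
        · simp
        · rw [single_eq_of_ne hj]
          have h9 : d j < 1 := hcon ⟨(i, j), hj.symm⟩ hi
          omega
      let pick : (Fin n →₀ ℕ) → Option Pr := fun d =>
        if h : ¬ ∃ i, d = single i (d i) then some (hex d h).choose else none
      let E : Pr → (Fin n →₀ ℕ) := fun p => single p.1.1 1 + single p.1.2 1
      let g : Pr → MvPowerSeries (Fin n) k := fun p d =>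
        if pick (E p + d) = some p then MvPowerSeries.coeff (E p + d) f else 0
      have hf' : f = ∑ p : Pr, MvPowerSeries.monomial (E p) 1 * g p := by
        ext d
        rw [map_sum]
        simp only [MvPowerSeries.coeff_monomial_mul, one_mul]
        have hg : ∀ p : Pr, E p ≤ d → MvPowerSeries.coeff (d - E p) (g p) =
            if pick d = some p then MvPowerSeries.coeff d f else 0 := fun p hp => by
          show g p (d - E p) = _
          simp only [g, add_tsub_cancel_of_le hp]
        by_cases hd : ∃ i, d = single i (d i)
        · obtain ⟨i, hi⟩ := hd
          rw [hi, hpure, ← hi, eq_comm]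
          refine Finset.sum_eq_zero fun p _ => ?_
          split_ifs with hp
          · rw [hg p hp, if_neg]
            simp only [pick, dif_neg (not_not.mpr (⟨i, hi⟩ : ∃ i, d = single i (d i)))]
            simp
          · rfl
        · have hc := (hex d hd).choose_spec
          have hle : E (hex d hd).choose ≤ d := fun j => by
            have hne := (hex d hd).choose.2
            simp only [E, Finsupp.add_apply, Finsupp.single_apply]
            split_ifs with h1 h2 h2
            · exact absurd (h1.trans h2.symm) hne
            · subst h1; omega
            · subst h2; omega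
            · omega
          have hpk : pick d = some (hex d hd).choose := dif_pos hd
          rw [Finset.sum_eq_single (hex d hd).choose]
          · rw [if_pos hle, hg _ hle, if_pos hpk]
          · intro p _ hne
            split_ifs with hp
            · rw [hg p hp, if_neg]
              rw [hpk]
              exact fun h => hne (Option.some_injective _ h).symm
            · rfl
          · simp
      rw [hf']
      refine Ideal.sum_mem _ fun p _ => Ideal.mul_mem_right _ _ (Ideal.subset_span ⟨p.1.1, p.1.2, p.2, ?_⟩)
      rw [MvPowerSeries.X_def, MvPowerSeries.X_def, MvPowerSeries.monomial_mul_monomial, one_mul]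
    · rw [Ideal.span_le]
      rintro _ ⟨i, j, hij, rfl⟩
      refine RingHom.mem_ker.mpr (funext fun l => PowerSeries.ext fun m => ?_)
      rw [hco, Pi.zero_apply, map_zero, MvPowerSeries.X_def, MvPowerSeries.X_def,
        MvPowerSeries.monomial_mul_monomial, MvPowerSeries.coeff_monomial, if_neg]
      intro h
      have hi := DFunLike.congr_fun h i
      have hj := DFunLike.congr_fun h j
      simp only [Finsupp.add_apply, Finsupp.single_apply, if_neg hij, if_neg hij.symm, if_true] at hi hj
      split_ifs at hi hj with h1 h2
      all_goals first | omega | exact hij (h1.symm.trans h2)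
  · rintro ⟨f, rfl⟩ i j
    rw [← PowerSeries.coeff_zero_eq_constantCoeff_apply, ← PowerSeries.coeff_zero_eq_constantCoeff_apply,
      hco, hco, single_zero, single_zero]
  · let f : MvPowerSeries (Fin n) k := fun d =>
      if h : ∃ i, d = single i (d i) then PowerSeries.coeff (d h.choose) (F h.choose) else 0
    refine ⟨f, funext fun i => PowerSeries.ext fun m => ?_⟩
    rw [hco]
    show f (single i m) = _
    have h : ∃ j, single i m = single j ((single i m : Fin n →₀ ℕ) j) := ⟨i, by rw [single_eq_same]⟩
    simp only [f, dif_pos h]
    rcases eq_or_ne m 0 with rfl | hm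
    · simp only [single_zero, Finsupp.zero_apply, PowerSeries.coeff_zero_eq_constantCoeff_apply]
      exact hF _ _
    · have hj : h.choose = i := eq_of_single h.choose_spec (by rw [single_eq_same])
        (fun h0 => hm (by simpa using DFunLike.congr_fun h0 i))
      rw [hj, single_eq_same]

end Groth.Agent.H06Wedge
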