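import Mathlib
import Groth.Agent.H06Wedge.Core
import Groth.Agent.H06Wedge.Multicross
import Groth.Agent.H06Wedge.MvCross
import Groth.Agent.H06DeltaBC.Main
import Groth.Agent.S7654

/-!
A local ring with multicross completion has `δ = n - 1` and `n` branches.
-/

set_option autoImplicit false
set_option linter.style.haveILetI false
universe u

open IsLocalRing TensorProduct nonZeroDivisors

namespace Groth.Agent.H06Wedge

/-- The normalization has the same maximal ideals after a flat unramified extension with trivial residue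
extension. -/
theorem card_maximalSpectrum_baseChange (A B : Type u) [CommRing A] [IsLocalRing A] [IsReduced A]
    [CommRing B] [IsLocalRing B] [Algebra A B] [IsLocalHom (algebraMap A B)]
    (hN : CAlg.IsNagata A) (hdim : ringKrullDim A = 1) [IsNoetherianRing B] [Module.Flat A B]
    (hmB : (maximalIdeal A).map (algebraMap A B) = maximalIdeal B)
    (hres : Function.Surjective (IsLocalRing.ResidueField.map (algebraMap A B))) :
    ENat.card (MaximalSpectrum (integralClosure B (FractionRing B))) =
      ENat.card (MaximalSpectrum (integralClosure A (FractionRing A))) := by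
  haveI : IsNoetherianRing A := hN.1
  haveI : Algebra.IsSeparable (ResidueField A) (ResidueField B) :=
    ⟨fun x => by obtain ⟨y, rfl⟩ := hres x; exact isSeparable_algebraMap y⟩
  obtain ⟨μ, hinj⟩ := H06DeltaBC.exists_embedding A B
  let A' := ↥(integralClosure A (FractionRing A))
  let R := B ⊗[A] A'
  have hrange := H06DeltaBC.range_eq_integralClosure A B hN hdim hmB (fun P hP =>
    haveI := hP
    H06DeltaBC.isReduced_tensor_residue hmB P
      (IsLocalRing.eq_maximalIdeal (Ideal.isMaximal_comap_of_isIntegral_of_isMaximal P))) μ hinj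
  let e : R ≃ₐ[B] integralClosure B (FractionRing B) :=
    (AlgEquiv.ofInjective μ hinj).trans (Subalgebra.equivOfEq _ _ hrange)
  obtain ⟨hfin, -, -⟩ := Groth.Agent.S7652.result A hN hdim
  haveI : Module.Finite A A' := hfin
  let i : A' →ₐ[A] R := Algebra.TensorProduct.includeRight
  -- every element is congruent to a pure tensor modulo the maximal ideal
  have hdec : ∀ z : R, ∃ a : A', z - i a ∈ (maximalIdeal B).map (algebraMap B R) := by
    intro z
    induction z using TensorProduct.induction_on with
    | zero => exact ⟨0, by simp⟩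
    | tmul b x =>
      obtain ⟨y, hy⟩ := hres (residue B b)
      obtain ⟨a, rfl⟩ := residue_surjective y
      refine ⟨a • x, ?_⟩
      have hb : b - algebraMap A B a ∈ maximalIdeal B := Ideal.Quotient.eq.mp hy.symm
      have h1 : b ⊗ₜ[A] x - i (a • x) = algebraMap B R (b - algebraMap A B a) * i x := by
        show b ⊗ₜ[A] x - (1 : B) ⊗ₜ[A] (a • x) = ((b - algebraMap A B a) ⊗ₜ[A] (1 : A')) * ((1 : B) ⊗ₜ[A] x)
        rw [Algebra.TensorProduct.tmul_mul_tmul, mul_one, one_mul, TensorProduct.sub_tmul,
          ← TensorProduct.smul_tmul, Algebra.smul_def, mul_one]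
      rw [h1]
      exact Ideal.mul_mem_right _ _ (Ideal.mem_map_of_mem _ hb)
    | add x y hx hy =>
      obtain ⟨a, ha⟩ := hx
      obtain ⟨c, hc⟩ := hy
      exact ⟨a + c, by rw [map_add, add_sub_add_comm]; exact add_mem ha hc⟩
  haveI : Algebra.IsIntegral B R := inferInstance
  have hle : ∀ n : Ideal R, n.IsMaximal → (maximalIdeal B).map (algebraMap B R) ≤ n := fun n hn =>
    Ideal.map_le_iff_le_comap.mpr
      (IsLocalRing.eq_maximalIdeal (Ideal.isMaximal_comap_of_isIntegral_of_isMaximal (R := B) n)).ge
  have hmax : ∀ n : Ideal R, n.IsMaximal → (n.comap i).IsMaximal := fun n hn => by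
    refine ⟨⟨Ideal.comap_ne_top _ hn.ne_top, fun J hJ => ?_⟩⟩
    obtain ⟨a, haJ, hna⟩ := SetLike.exists_of_lt hJ
    obtain ⟨w, v, hv, hw⟩ := hn.exists_inv (hna : i a ∉ n)
    obtain ⟨c, hc⟩ := hdec w
    refine (Ideal.eq_top_iff_one _).mpr ?_
    have h1 : 1 - c * a ∈ n.comap i := by
      rw [Ideal.mem_comap, map_sub, map_mul, map_one]
      have : (1 : R) - i c * i a = v + (w - i c) * i a := by rw [← hw]; ring
      rw [this]
      exact add_mem hv (n.mul_mem_right _ (hle n hn hc))
    have h2 := add_mem (hJ.le h1) (J.mul_mem_left c haJ)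
    rwa [sub_add_cancel] at h2
  let F : MaximalSpectrum R → MaximalSpectrum A' := fun n => ⟨n.asIdeal.comap i, hmax _ n.isMaximal⟩
  have hF : Function.Bijective F := by
    refine ⟨fun n n' h => MaximalSpectrum.ext (n.isMaximal.eq_of_le n'.isMaximal.ne_top fun z hz => ?_), fun P => ?_⟩
    · obtain ⟨a, ha⟩ := hdec z
      have h1 : a ∈ n.asIdeal.comap i := by
        rw [Ideal.mem_comap, show i a = z - (z - i a) by ring]
        exact sub_mem hz (hle _ n.isMaximal ha)
      rw [show n.asIdeal.comap i = n'.asIdeal.comap i from congrArg MaximalSpectrum.asIdeal h] at h1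
      rw [show z = i a + (z - i a) by ring]
      exact add_mem h1 (hle _ n'.isMaximal ha)
    · haveI := P.isMaximal
      let Q := A' ⧸ P.asIdeal
      have hkill : ∀ a ∈ maximalIdeal A, algebraMap A Q a = 0 := fun a ha => by
        rw [← (isMaximal_iff A).mp (Ideal.isMaximal_comap_of_isIntegral_of_isMaximal (R := A) P.asIdeal)] at ha
        exact Ideal.Quotient.eq_zero_iff_mem.mpr ha
      let E := RingEquiv.ofBijective (IsLocalRing.ResidueField.map (algebraMap A B))
        ⟨RingHom.injective _, hres⟩
      let g : B →+* Q :=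
        (Ideal.Quotient.lift (maximalIdeal A) (algebraMap A Q) hkill).comp (E.symm.toRingHom.comp (residue B))
      let g' : B →ₐ[A] Q :=
        { g with commutes' := fun a => by
                   show Ideal.Quotient.lift (maximalIdeal A) (algebraMap A Q) hkill
                     (E.symm (residue B (algebraMap A B a))) = algebraMap A Q a
                   rw [show E.symm (residue B (algebraMap A B a)) = residue A a from
                     E.symm_apply_eq.mpr rfl]
                   exact Ideal.Quotient.lift_mk _ _ _ }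
      let π : R →ₐ[A] Q := Algebra.TensorProduct.lift g' (Ideal.Quotient.mkₐ A P.asIdeal) fun b x => mul_comm (g' b) _
      have hπ : Function.Surjective π := fun z => by
        obtain ⟨a, rfl⟩ := Ideal.Quotient.mk_surjective z
        refine ⟨i a, ?_⟩
        show π ((1 : B) ⊗ₜ[A] a) = _
        rw [Algebra.TensorProduct.lift_tmul, map_one, one_mul]
        rfl
      refine ⟨⟨RingHom.ker π.toRingHom, ?_⟩, MaximalSpectrum.ext (Ideal.ext fun a => ?_)⟩
      · letI := Ideal.Quotient.field P.asIdeal
        exact RingHom.ker_isMaximal_of_surjective _ hπ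
      · show π ((1 : B) ⊗ₜ[A] a) = 0 ↔ _
        rw [Algebra.TensorProduct.lift_tmul, map_one, one_mul]
        exact Ideal.Quotient.eq_zero_iff_mem
  rw [← ENat.card_congr (Equiv.ofBijective F hF)]
  exact (ENat.card_congr
    { toFun := fun m => ⟨m.asIdeal.comap e.toRingHom, by
        haveI := m.isMaximal; exact Ideal.comap_isMaximal_of_surjective _ e.surjective⟩
      invFun := fun m => ⟨m.asIdeal.comap e.symm.toRingHom, by
        haveI := m.isMaximal; exact Ideal.comap_isMaximal_of_surjective _ e.symm.surjective⟩
      left_inv := fun m => MaximalSpectrum.ext (Ideal.ext fun z => by simp)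
      right_inv := fun m => MaximalSpectrum.ext (Ideal.ext fun z => by simp) })

/-- Invariants of a local ring whose completion is a multicross ring. -/
theorem invariants_of_completion_multicross (k : Type u) [Field k] (A : Type u) [CommRing A] [IsLocalRing A]
    [IsReduced A] (hdim : ringKrullDim A = 1) (hN : CAlg.IsNagata A) (n : ℕ)
    (e : Curv2.cpl A ≃+* (MvPowerSeries (Fin n) k ⧸ Ideal.span {f : MvPowerSeries (Fin n) k |
        ∃ i j : Fin n, i ≠ j ∧ f = MvPowerSeries.X i * MvPowerSeries.X j})) :
    Brnch.numBranches A = n ∧ Curv2.deltaInv A + 1 = n := by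
  haveI : IsNoetherianRing A := hN.1
  haveI : IsNoetherianRing (Curv2.cpl A) := H05EGA4.isNoetherianRing_adicCompletion A _
  obtain ⟨t, htm, ht0⟩ := H17.NormalizationDVR.exists_regular A hdim
  haveI : NeZero n := ⟨by
    rintro rfl
    have hnu : ¬ IsUnit (algebraMap A (Curv2.cpl A) t) := fun h =>
      (IsLocalRing.mem_maximalIdeal _).mp htm ((isUnit_map_iff _ t).mp h)
    have hreg : IsSMulRegular (Curv2.cpl A) (algebraMap A (Curv2.cpl A) t) :=
      IsSMulRegular.of_flat (fun x y h => by
        simp only [smul_eq_mul] at h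
        exact (mul_cancel_left_mem_nonZeroDivisors ht0).mp h)
    obtain ⟨F, hF⟩ := Ideal.Quotient.mk_surjective (e (algebraMap A (Curv2.cpl A) t))
    have hF0 : F = MvPowerSeries.C (MvPowerSeries.constantCoeff F) := by
      ext d
      obtain rfl : d = 0 := Subsingleton.elim _ _
      simp
    rcases eq_or_ne (MvPowerSeries.constantCoeff F) 0 with h0 | h0
    · have h1 : algebraMap A (Curv2.cpl A) t = 0 := e.injective (by rw [← hF, hF0, h0]; simp)
      exact one_ne_zero (hreg (show algebraMap A (Curv2.cpl A) t • (1 : Curv2.cpl A) =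
        algebraMap A (Curv2.cpl A) t • 0 by rw [h1, zero_smul, zero_smul]))
    · refine hnu ?_
      rw [← e.symm_apply_apply (algebraMap A (Curv2.cpl A) t), ← hF, hF0]
      exact (((isUnit_iff_ne_zero.mpr h0).map MvPowerSeries.C).map (Ideal.Quotient.mk _)).map e.symm⟩
  obtain ⟨θ, -, hker, hrange⟩ := exists_axes k n
  have hH : ∀ x ∈ Ideal.span {f : MvPowerSeries (Fin n) k |
      ∃ i j : Fin n, i ≠ j ∧ f = MvPowerSeries.X i * MvPowerSeries.X j}, θ x = 0 :=
    fun x hx => RingHom.mem_ker.mp (hker.ge hx)
  let θ' : Curv2.cpl A →+* (Fin n → PowerSeries k) :=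
    (Ideal.Quotient.lift _ θ hH).comp e.toRingHom
  have hinj : Function.Injective θ' :=
    (RingHom.lift_injective_of_ker_le_ideal _ hH hker.le).comp e.injective
  have hr : Set.range θ' = {f | ∀ i j, PowerSeries.constantCoeff (f i) = PowerSeries.constantCoeff (f j)} := by
    rw [← hrange]
    ext f
    constructor
    · rintro ⟨x, rfl⟩
      obtain ⟨F, hF⟩ := Ideal.Quotient.mk_surjective (e x)
      exact ⟨F, by show θ F = Ideal.Quotient.lift _ θ hH (e x); rw [← hF, Ideal.Quotient.lift_mk]⟩
    · rintro ⟨F, rfl⟩
      exact ⟨e.symm (Ideal.Quotient.mk _ F), by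
        show Ideal.Quotient.lift _ θ hH (e (e.symm _)) = θ F
        rw [RingEquiv.apply_symm_apply, Ideal.Quotient.lift_mk]⟩
  obtain ⟨hδ, hcard⟩ := multicross_invariants k (Curv2.cpl A) n θ' hinj hr
  rw [(Groth.Agent.S7654.result A hN hdim).2.2] at hδ
  refine ⟨?_, hδ⟩
  rw [numBranches_eq_card A, ← hcard]
  exact (card_maximalSpectrum_baseChange A (Curv2.cpl A) hN hdim AdicCompletion.maximalIdeal_eq_map.symm
    (AdicCompletion.residueField_map_bijective A).2).symm

end Groth.Agent.H06Wedge
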