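import Mathlib
import Groth.Prelude.Def_Curv2
import Groth.Agent.H8Props.FibreStalk
import Groth.Agent.H8Props.FieldDimFormula

/-! Closed points of curves over an algebraically closed field. -/

set_option autoImplicit false
set_option linter.style.haveILetI false
universe u

open CategoryTheory AlgebraicGeometry IsLocalRing TopologicalSpace

namespace Groth.Agent.H06Wedge

/-- Evaluation at a rational point splits the constants. -/
theorem stalk_residue {K : Type u} [Field K] {X : Scheme.{u}} [hX : X.Over (Spec (CommRingCat.of K))]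
    (t : Spec (CommRingCat.of K) ⟶ X) (ht : t ≫ (X ↘ Spec (CommRingCat.of K)) = 𝟙 _) :
    letI := Curv2.stalkAlgebra K X (t (IsLocalRing.closedPoint K))
    ∀ a : X.presheaf.stalk (t (IsLocalRing.closedPoint K)), ∃ c : K,
      a - algebraMap K _ c ∈ maximalIdeal (X.presheaf.stalk (t (IsLocalRing.closedPoint K))) := by
  letI := Curv2.stalkAlgebra K X (t (IsLocalRing.closedPoint K))
  intro a
  let φ := Scheme.stalkClosedPointTo t
  have hφ : ∀ c : K, φ.hom (algebraMap K _ c) = c := fun c => by
    show φ (X.presheaf.germ ⊤ (t (IsLocalRing.closedPoint K)) trivial ((X ↘ Spec (CommRingCat.of K)).appTop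
      ((Scheme.ΓSpecIso (CommRingCat.of K)).inv c))) = c
    have h1 := H8Props.FibreStalk.stalkClosedPointTo_comp_germ t (X ↘ Spec (CommRingCat.of K)) ⊤ trivial
      ((Scheme.ΓSpecIso (CommRingCat.of K)).inv c)
    refine h1.symm.trans ?_
    have key : ∀ (g : Spec (CommRingCat.of K) ⟶ Spec (CommRingCat.of K)) (_ : g = 𝟙 _) (s : Γ(Spec (CommRingCat.of K), ⊤)),
        Scheme.stalkClosedPointTo g ((Spec (CommRingCat.of K)).presheaf.germ ⊤ (g (IsLocalRing.closedPoint K)) trivial s) =
          (Scheme.ΓSpecIso (CommRingCat.of K)).hom s := by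
      rintro g rfl s
      have := congr($(Scheme.germ_stalkClosedPointTo (𝟙 (Spec (CommRingCat.of K))) ⊤ trivial) s)
      simp at this
      exact this
    refine (key _ ht _).trans ?_
    exact (ConcreteCategory.congr_hom (Scheme.ΓSpecIso (CommRingCat.of K)).inv_hom_id c)
  refine ⟨φ a, fun hu => ?_⟩
  have h0 : φ.hom (a - algebraMap K _ (φ a)) = 0 := by rw [map_sub, hφ]; exact sub_self _
  exact (hu.map φ.hom).ne_zero h0

/-- Closed points of pure one-dimensional schemes have one-dimensional local rings. -/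
theorem ringKrullDim_stalk_of_pure_one {K : Type u} [Field K] {Z : Scheme.{u}} [Z.Over (Spec (CommRingCat.of K))]
    [LocallyOfFiniteType (Z ↘ Spec (CommRingCat.of K))]
    (hZ : ∀ T ∈ irreducibleComponents Z, topologicalKrullDim T = 1) {z : Z} (hz : IsClosed ({z} : Set Z)) :
    ringKrullDim (Z.presheaf.stalk z) = 1 := by
  have h1 := H8Props.FieldDim.localDim_eq_stalk_add_cdim (Z ↘ Spec (CommRingCat.of K)) z
  rw [H8Props.FieldDim.localDim_eq_of_pure (Z ↘ Spec (CommRingCat.of K)) z 1 hZ, H8Props.FieldDim.cdim,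
    hz.closure_eq] at h1
  haveI : Subsingleton ({z} : Set Z) := Set.subsingleton_singleton.coe_sort
  haveI : Subsingleton (IrreducibleCloseds ({z} : Set Z)) := ⟨fun a b => SetLike.coe_injective
    ((Subsingleton.eq_univ_of_nonempty a.isIrreducible'.nonempty).trans
      (Subsingleton.eq_univ_of_nonempty b.isIrreducible'.nonempty).symm)⟩
  haveI : Nonempty (IrreducibleCloseds ({z} : Set Z)) := ⟨⟨{⟨z, rfl⟩}, isIrreducible_singleton, by
    convert hz.preimage (continuous_subtype_val (p := (· ∈ ({z} : Set Z)))) using 1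
    ext w; simp only [Set.mem_preimage, Set.mem_singleton_iff, Subtype.ext_iff]⟩⟩
  have h0 : topologicalKrullDim ({z} : Set Z) = 0 :=
    le_antisymm Order.krullDim_nonpos_of_subsingleton Order.krullDim_nonneg
  rw [h0, add_zero] at h1
  exact h1.symm

theorem residue_bijective_of_isClosed (k : Type u) [Field k] [IsAlgClosed k] (X : Scheme.{u})
    [X.Over (Spec (CommRingCat.of k))] [LocallyOfFiniteType (X ↘ (Spec (CommRingCat.of k)))]
    (x : X) (hx : IsClosed ({x} : Set X)) :
    letI := Curv2.stalkAlgebra k X x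
    Function.Bijective (algebraMap k (ResidueField (X.presheaf.stalk x))) := by
  obtain ⟨t, ht, hpt⟩ : ∃ t : Spec (CommRingCat.of k) ⟶ X, t ≫ (X ↘ Spec (CommRingCat.of k)) = 𝟙 _ ∧
      t (IsLocalRing.closedPoint k) = x :=
    ⟨pointOfClosedPoint (X ↘ Spec (CommRingCat.of k)) x hx, pointOfClosedPoint_comp _ x hx,
      congrArg Subtype.val ((pointEquivClosedPoint (X ↘ Spec (CommRingCat.of k))).apply_symm_apply ⟨x, hx⟩)⟩
  subst hpt
  letI := Curv2.stalkAlgebra k X (t (IsLocalRing.closedPoint k))
  refine ⟨RingHom.injective _, fun z => ?_⟩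
  obtain ⟨a, rfl⟩ := residue_surjective z
  obtain ⟨c, hc⟩ := stalk_residue t ht a
  exact ⟨c, (Ideal.Quotient.eq.mpr hc).symm⟩

end Groth.Agent.H06Wedge
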