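import Mathlib

/-!
Expansions of discrete valuation rings as power series, and maps out of completions into powers of a
power series ring.
-/

set_option autoImplicit false
set_option linter.style.haveILetI false
universe u v

open Polynomial

namespace Groth.Agent.H06Wedge

/-- A discrete valuation ring containing a field mapping onto its residue field expands into power
series: a ring map with dense image, reflecting divisibility by powers of the uniformizer. -/
theorem exists_expansion (k R : Type u) [Field k] [CommRing R] [IsDomain R] [IsDiscreteValuationRing R]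
    [Algebra k R] (hk : Function.Surjective (algebraMap k (IsLocalRing.ResidueField R))) :
    ∃ h : R →+* PowerSeries k,
      (∀ c, h (algebraMap k R c) = PowerSeries.C c) ∧
      (∀ (N : ℕ) (a : R), a ∈ IsLocalRing.maximalIdeal R ^ N ↔ PowerSeries.X ^ N ∣ h a) ∧
      ∀ (N : ℕ) (f : PowerSeries k), ∃ a, PowerSeries.X ^ N ∣ f - h a := by
  classical
  obtain ⟨π, hπ⟩ := IsDiscreteValuationRing.exists_irreducible R
  have hm : IsLocalRing.maximalIdeal R = Ideal.span {π} := hπ.maximalIdeal_eq
  have hsplit : ∀ a : R, ∃ (c : k) (b : R), a = algebraMap k R c + π * b := fun a => by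
    obtain ⟨c, hc⟩ := hk (IsLocalRing.residue R a)
    have h1 : a - algebraMap k R c ∈ IsLocalRing.maximalIdeal R :=
      (IsLocalRing.residue_eq_zero_iff _).mp (by
        rw [map_sub, sub_eq_zero]; exact hc.symm)
    rw [hm, Ideal.mem_span_singleton'] at h1
    obtain ⟨b, hb⟩ := h1
    exact ⟨c, b, by linear_combination -hb⟩
  choose c₀ rest hrest using hsplit
  let coef : ℕ → R → k := fun n a => c₀ (rest^[n] a)
  let P : R → ℕ → k[X] := fun a N => ∑ n ∈ Finset.range N, Polynomial.C (coef n a) * Polynomial.X ^ n
  have hP : ∀ (N : ℕ) (a : R), π ^ N ∣ a - aeval π (P a N) := by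
    intro N
    induction N with
    | zero => intro a; simp
    | succ N ih =>
      intro a
      obtain ⟨w, hw⟩ := ih (rest a)
      refine ⟨w, ?_⟩
      have hsum : P a (N + 1) = Polynomial.C (c₀ a) + Polynomial.X * P (rest a) N := by
        simp only [P, Finset.sum_range_succ', coef, Function.iterate_succ_apply, Function.iterate_zero_apply,
          pow_zero, mul_one, pow_succ, Finset.mul_sum]
        rw [add_comm]
        congr 1
        exact Finset.sum_congr rfl fun i _ => by ring
      rw [hsum, map_add, map_mul, aeval_C, aeval_X, pow_succ]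
      linear_combination hrest a + π * hw
  have huniq : ∀ (N : ℕ) (p : k[X]), π ^ N ∣ aeval π p → (Polynomial.X : k[X]) ^ N ∣ p := by
    intro N
    induction N with
    | zero => intro p _; simp
    | succ N ih =>
      intro p hp
      have h0 : p.coeff 0 = 0 := by
        by_contra h
        have hu : IsUnit (algebraMap k R (p.coeff 0)) := (isUnit_iff_ne_zero.mpr h).map _
        refine hπ.not_isUnit (isUnit_of_dvd_unit ?_ hu)
        have h1 : π ∣ aeval π p := (dvd_pow_self π (Nat.succ_ne_zero N)).trans hp
        have h2 : aeval π p = π * aeval π p.divX + algebraMap k R (p.coeff 0) := by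
          conv_lhs => rw [← Polynomial.X_mul_divX_add p]
          rw [map_add, map_mul, aeval_X, aeval_C]
        rw [h2] at h1
        exact (dvd_add_right (dvd_mul_right π _)).mp h1
      have hp' : p = Polynomial.X * p.divX := by
        conv_lhs => rw [← Polynomial.X_mul_divX_add p, h0, map_zero, add_zero]
      rw [hp', pow_succ']
      refine mul_dvd_mul_left _ (ih _ ?_)
      rw [hp', map_mul, aeval_X, pow_succ'] at hp
      exact (mul_dvd_mul_iff_left hπ.ne_zero).mp hp
  let e : R → PowerSeries k := fun a => PowerSeries.mk fun n => coef n a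
  have htr : ∀ a N, PowerSeries.trunc N (e a) = P a N := fun a N => by
    ext d
    simp only [PowerSeries.coeff_trunc, e, PowerSeries.coeff_mk, P, Polynomial.finsetSum_coeff,
      Polynomial.coeff_C_mul_X_pow, Finset.sum_ite_eq, Finset.mem_range]
  -- the characterization of the expansion
  have hchar : ∀ (a : R) (f : PowerSeries k),
      (∀ N, π ^ N ∣ a - aeval π (PowerSeries.trunc N f)) → e a = f := by
    intro a f hf
    ext n
    have h1 : π ^ (n + 1) ∣ aeval π (PowerSeries.trunc (n + 1) (e a) - PowerSeries.trunc (n + 1) f) := by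
      rw [map_sub, htr]
      have := dvd_sub (hf (n + 1)) (hP (n + 1) a)
      simpa using this
    have h2 := Polynomial.X_pow_dvd_iff.mp (huniq _ _ h1) n (Nat.lt_succ_self n)
    rw [Polynomial.coeff_sub, PowerSeries.coeff_trunc, PowerSeries.coeff_trunc, if_pos (Nat.lt_succ_self n),
      if_pos (Nat.lt_succ_self n), sub_eq_zero] at h2
    exact h2
  have hspec : ∀ (a : R) (N : ℕ), π ^ N ∣ a - aeval π (PowerSeries.trunc N (e a)) := fun a N => by
    rw [htr]; exact hP N a
  have hC : ∀ c, e (algebraMap k R c) = PowerSeries.C c := fun c => hchar _ _ fun N => by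
    rcases N with _ | N
    · simp
    · simp [PowerSeries.trunc_C]
  have hmul : ∀ a b, e (a * b) = e a * e b := by
    refine fun a b => hchar _ _ fun N => ?_
    have hd : (Polynomial.X : k[X]) ^ N ∣
        PowerSeries.trunc N (e a) * PowerSeries.trunc N (e b) - PowerSeries.trunc N (e a * e b) := by
      rw [Polynomial.X_pow_dvd_iff]
      intro d hd
      rw [Polynomial.coeff_sub, sub_eq_zero, ← PowerSeries.trunc_trunc_mul_trunc (e a) (e b),
        PowerSeries.coeff_trunc, if_pos hd, ← Polynomial.coe_mul, Polynomial.coeff_coe]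
    obtain ⟨w, hw⟩ := hd
    obtain ⟨x, hx⟩ := hspec a N
    obtain ⟨y, hy⟩ := hspec b N
    refine ⟨x * b + aeval π (PowerSeries.trunc N (e a)) * y + aeval π w, ?_⟩
    have h3 := congrArg (aeval π) hw
    simp only [map_sub, map_mul, map_pow, aeval_X] at h3
    linear_combination b * hx + aeval π (PowerSeries.trunc N (e a)) * hy + h3
  have hadd : ∀ a b, e (a + b) = e a + e b := fun a b => hchar _ _ fun N => by
    rw [map_add, map_add]
    convert dvd_add (hspec a N) (hspec b N) using 1
    ring
  let h : R →+* PowerSeries k :=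
    { toFun := e
      map_one' := by rw [← map_one (algebraMap k R), hC, map_one]
      map_mul' := hmul
      map_zero' := by rw [← map_zero (algebraMap k R), hC, map_zero]
      map_add' := hadd }
  have hiff : ∀ (N : ℕ) (a : R), a ∈ IsLocalRing.maximalIdeal R ^ N ↔ PowerSeries.X ^ N ∣ e a := by
    intro N a
    rw [hm, Ideal.span_singleton_pow, Ideal.mem_span_singleton, PowerSeries.X_pow_dvd_iff]
    constructor
    · intro ha d hd
      have h1 : π ^ N ∣ aeval π (PowerSeries.trunc N (e a)) := by
        simpa using dvd_sub ha (hspec a N)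
      have h2 := Polynomial.X_pow_dvd_iff.mp (huniq _ _ h1) d hd
      rwa [PowerSeries.coeff_trunc, if_pos hd] at h2
    · intro ha
      have h0 : PowerSeries.trunc N (e a) = 0 := by
        ext d
        rw [PowerSeries.coeff_trunc, Polynomial.coeff_zero]
        split_ifs with hd
        · exact ha d hd
        · rfl
      simpa [h0] using hspec a N
  refine ⟨h, hC, hiff, fun N f => ⟨aeval π (PowerSeries.trunc N f), ?_⟩⟩
  rw [PowerSeries.X_pow_dvd_iff]
  intro d hd
  let a := aeval π (PowerSeries.trunc N f)
  have h1 : π ^ N ∣ aeval π (PowerSeries.trunc N f - PowerSeries.trunc N (e a)) := by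
    rw [map_sub]; exact hspec a N
  have h2 := Polynomial.X_pow_dvd_iff.mp (huniq _ _ h1) d hd
  rw [Polynomial.coeff_sub, PowerSeries.coeff_trunc, PowerSeries.coeff_trunc, if_pos hd, if_pos hd] at h2
  rw [map_sub]
  exact h2

/-- A map into a power of a power series ring whose preimages of the powers of `X` are the powers of
an ideal extends injectively to the completion, with image the closure of the image. -/
theorem exists_completion_map {A : Type u} [CommRing A] (I : Ideal A) {k : Type u} [Field k] {ι : Type v}
    (ψ : A →+* (ι → PowerSeries k))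
    (hψ : ∀ (N : ℕ) (a : A), a ∈ I ^ N ↔ ∀ i, PowerSeries.X ^ N ∣ ψ a i) :
    ∃ φ : AdicCompletion I A →+* (ι → PowerSeries k),
      (∀ a, φ (algebraMap A _ a) = ψ a) ∧ Function.Injective φ ∧
      Set.range φ = {f | ∀ N : ℕ, ∃ a, ∀ i, PowerSeries.X ^ N ∣ f i - ψ a i} := by
  classical
  have hrep : ∀ (x : AdicCompletion I A) (N : ℕ), ∃ r, AdicCompletion.evalₐ I N x = Ideal.Quotient.mk (I ^ N) r :=
    fun x N => by
      obtain ⟨r, hr⟩ := Ideal.Quotient.mk_surjective (AdicCompletion.evalₐ I N x)
      exact ⟨r, hr.symm⟩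
  choose r hr using hrep
  let φf : AdicCompletion I A → ι → PowerSeries k := fun x i =>
    PowerSeries.mk fun n => PowerSeries.coeff n (ψ (r x (n + 1)) i)
  have hfac : ∀ (x : AdicCompletion I A) {M N : ℕ}, M ≤ N → r x N - r x M ∈ I ^ M := by
    intro x M N hMN
    obtain ⟨c, hc⟩ := AdicCompletion.mk_surjective I A x
    have h1 : ∀ n, r x n - c.val n ∈ I ^ n := fun n => by
      rw [← Ideal.Quotient.eq, ← hr x n, ← hc, AdicCompletion.evalₐ_mk]
    have h2 : c.val M - c.val N ∈ I ^ M := by
      have h := SModEq.sub_mem.mp (c.property hMN)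
      rwa [smul_eq_mul, Ideal.mul_top] at h
    have := (I ^ M).sub_mem ((I ^ M).sub_mem (Ideal.pow_le_pow_right hMN (h1 N)) (h1 M)) h2
    convert this using 1
    ring
  -- the characterisation
  have hspec : ∀ (x : AdicCompletion I A) (N : ℕ) (a : A),
      AdicCompletion.evalₐ I N x = Ideal.Quotient.mk (I ^ N) a → ∀ i, PowerSeries.X ^ N ∣ φf x i - ψ a i := by
    intro x N a ha i
    rw [PowerSeries.X_pow_dvd_iff]
    intro d hd
    have h1 : r x (d + 1) - a ∈ I ^ (d + 1) := by
      have h2 : r x N - a ∈ I ^ (d + 1) := Ideal.pow_le_pow_right hd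
        (Ideal.Quotient.eq.mp ((hr x N).symm.trans ha))
      have h3 := hfac x (show d + 1 ≤ N from hd)
      simpa using (I ^ (d + 1)).sub_mem h2 h3
    have h4 := PowerSeries.X_pow_dvd_iff.mp ((hψ _ _).mp h1 i) d (Nat.lt_succ_self d)
    rw [map_sub, Pi.sub_apply, map_sub] at h4
    rw [map_sub, PowerSeries.coeff_mk]
    exact h4
  have huniq : ∀ (f g : ι → PowerSeries k), (∀ N i, PowerSeries.X ^ N ∣ f i - g i) → f = g := by
    intro f g h
    funext i
    ext d
    have := PowerSeries.X_pow_dvd_iff.mp (h (d + 1) i) d (Nat.lt_succ_self d)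
    rwa [map_sub, sub_eq_zero] at this
  have hext : ∀ (x : AdicCompletion I A) (g : ι → PowerSeries k),
      (∀ N, ∃ a, AdicCompletion.evalₐ I N x = Ideal.Quotient.mk (I ^ N) a ∧
        ∀ i, PowerSeries.X ^ N ∣ g i - ψ a i) → φf x = g := by
    refine fun x g h => huniq _ _ fun N i => ?_
    obtain ⟨a, ha, hga⟩ := h N
    simpa using dvd_sub (hspec x N a ha i) (hga i)
  have hof : ∀ a, φf (algebraMap A _ a) = ψ a := fun a => hext _ _ fun N =>
    ⟨a, (AdicCompletion.evalₐ I N).commutes a, fun i => by simp⟩
  let φ : AdicCompletion I A →+* (ι → PowerSeries k) :=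
    { toFun := φf
      map_one' := by rw [← map_one (algebraMap A (AdicCompletion I A)), hof, map_one]
      map_mul' := fun x y => hext _ _ fun N => ⟨r x N * r y N, by rw [map_mul, map_mul, hr, hr], fun i => by
        obtain ⟨p, hp⟩ := hspec x N _ (hr x N) i
        obtain ⟨q, hq⟩ := hspec y N _ (hr y N) i
        refine ⟨p * φf y i + ψ (r x N) i * q, ?_⟩
        rw [Pi.mul_apply, map_mul, Pi.mul_apply]
        linear_combination φf y i * hp + ψ (r x N) i * hq⟩
      map_zero' := by rw [← map_zero (algebraMap A (AdicCompletion I A)), hof, map_zero]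
      map_add' := fun x y => hext _ _ fun N => ⟨r x N + r y N, by rw [map_add, map_add, hr, hr], fun i => by
        rw [Pi.add_apply, map_add, Pi.add_apply]
        convert dvd_add (hspec x N _ (hr x N) i) (hspec y N _ (hr y N) i) using 1
        ring⟩ }
  refine ⟨φ, hof, ?_, Set.ext fun f => ⟨?_, fun hf => ?_⟩⟩
  · refine (injective_iff_map_eq_zero φ).mpr fun x hx => AdicCompletion.ext_evalₐ fun N => ?_
    rw [hr, map_zero, Ideal.Quotient.eq_zero_iff_mem, hψ]
    intro i
    have := hspec x N _ (hr x N) i
    rwa [show φf x i = 0 from congrFun hx i, zero_sub, dvd_neg] at this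
  · rintro ⟨x, rfl⟩
    exact fun N => ⟨r x N, hspec x N _ (hr x N)⟩
  · choose a ha using hf
    have hc : ∀ {M N : ℕ}, M ≤ N → a M ≡ a N [SMOD (I ^ M • ⊤ : Submodule A A)] := by
      intro M N hMN
      rw [SModEq.sub_mem, smul_eq_mul, Ideal.mul_top, hψ]
      intro i
      rw [map_sub, Pi.sub_apply]
      simpa using dvd_sub ((pow_dvd_pow PowerSeries.X hMN).trans (ha N i)) (ha M i)
    let x := AdicCompletion.mk I A ⟨a, hc⟩
    exact ⟨x, hext _ _ fun N => ⟨a N, by simp [x], ha N⟩⟩

end Groth.Agent.H06Wedge
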