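import Mathlib
import Groth.Agent.H06Wedge.Core
import Groth.Agent.H06Wedge.Series
import Groth.Agent.H06DeltaBC.Main

/-!
The completion of a wedge of discrete valuation rings is a multicross ring.
-/

set_option autoImplicit false
set_option linter.style.haveILetI false
universe u

open IsLocalRing

namespace Groth.Agent.H06Wedge

theorem mem_pow_maximalIdeal_iff {T : Type u} [CommRing T] (p : Ideal T) [p.IsMaximal] (S : Type u)
    [CommRing S] [IsLocalRing S] [Algebra T S] [IsLocalization.AtPrime S p] (N : ℕ) (a : T) :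
    algebraMap T S a ∈ maximalIdeal S ^ N ↔ a ∈ p ^ N := by
  have he := IsLocalization.AtPrime.equivQuotMaximalIdealPow_apply_mk p S N a
  rw [← Ideal.Quotient.eq_zero_iff_mem, ← Ideal.Quotient.eq_zero_iff_mem]
  refine ⟨fun h0 => (IsLocalization.AtPrime.equivQuotMaximalIdealPow p S N).injective ?_, fun h0 => ?_⟩
  · rw [map_zero]; exact he.trans h0
  · exact he.symm.trans (by rw [h0, map_zero])

theorem exists_sub_mem_pow {T : Type u} [CommRing T] (p : Ideal T) [p.IsMaximal] (S : Type u)
    [CommRing S] [IsLocalRing S] [Algebra T S] [IsLocalization.AtPrime S p] (N : ℕ) (z : S) :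
    ∃ w, z - algebraMap T S w ∈ maximalIdeal S ^ N := by
  obtain ⟨w, hw⟩ := Ideal.Quotient.mk_surjective
    ((IsLocalization.AtPrime.equivQuotMaximalIdealPow p S N).symm (Ideal.Quotient.mk _ z))
  refine ⟨w, Ideal.Quotient.eq.mp ?_⟩
  refine Eq.trans ?_ (IsLocalization.AtPrime.equivQuotMaximalIdealPow_apply_mk p S N w)
  rw [hw, AlgEquiv.apply_symm_apply]

/-- A local `k`-algebra with residue field `k` and `δ = n - 1`, `n` the number of branches, expands
into `n` power series with a common constant term. -/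
theorem exists_wedge_expansion (k : Type u) [Field k] (A : Type u) [CommRing A] [IsLocalRing A] [Algebra k A]
    [IsReduced A] (hdim : ringKrullDim A = 1) (hN : CAlg.IsNagata A)
    (hres : Function.Bijective (algebraMap k (ResidueField A)))
    (n : ℕ) (hn : Brnch.numBranches A = n) (hδ : Curv2.deltaInv A + 1 = n) :
    ∃ ψ : A →+* (Fin n → PowerSeries k),
      (∀ c, ψ (algebraMap k A c) = fun _ => PowerSeries.C c) ∧
      (∀ (N : ℕ) (a : A), a ∈ maximalIdeal A ^ N ↔ ∀ i, PowerSeries.X ^ N ∣ ψ a i) ∧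
      (∀ (a : A) (i j : Fin n), PowerSeries.constantCoeff (ψ a i) = PowerSeries.constantCoeff (ψ a j)) ∧
      ∀ f : Fin n → PowerSeries k, (∀ i j, PowerSeries.constantCoeff (f i) = PowerSeries.constantCoeff (f j)) →
        ∀ N : ℕ, ∃ a, ∀ i, PowerSeries.X ^ N ∣ f i - ψ a i := by
  classical
  haveI : IsNoetherianRing A := hN.1
  obtain ⟨hfin, hnorm, -⟩ := Groth.Agent.S7652.result A hN hdim
  let A' := ↥(integralClosure A (FractionRing A))
  haveI : Module.Finite A A' := hfin
  obtain ⟨t, htm, ht0⟩ := H17.NormalizationDVR.exists_regular A hdim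
  have hcard : ENat.card (MaximalSpectrum A') = n := (numBranches_eq_card A).symm.trans hn
  obtain ⟨hsurj, hrad⟩ := wedge_of_length A A' (hδ.trans hcard.symm)
  haveI := H22Alg.finite_maximalSpectrum_of_finite A A'
  letI := Fintype.ofFinite (MaximalSpectrum A')
  obtain ⟨σ⟩ : Nonempty (Fin n ≃ MaximalSpectrum A') := by
    rw [ENat.card_eq_coe_fintype_card] at hcard
    exact ⟨(Fintype.equivFinOfCardEq (by exact_mod_cast hcard)).symm⟩
  haveI hmax : ∀ i, (σ i).asIdeal.IsMaximal := fun i => (σ i).isMaximal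
  let R : Fin n → Type u := fun i => Localization.AtPrime (σ i).asIdeal
  have hR : ∀ i, ∃ _ : IsDomain (R i), IsDiscreteValuationRing (R i) := fun i =>
    H06DeltaBC.isDVR_localization A hdim _ (hnorm ⟨_, inferInstance⟩) htm ht0
  letI algA' : Algebra k A' := ((algebraMap A A').comp (algebraMap k A)).toAlgebra
  have hexp : ∀ i, ∃ h : A' →+* PowerSeries k,
      (∀ c, h (algebraMap k A' c) = PowerSeries.C c) ∧
      (∀ (N : ℕ) (a : A'), a ∈ (σ i).asIdeal ^ N ↔ PowerSeries.X ^ N ∣ h a) ∧
      ∀ (N : ℕ) (f : PowerSeries k), ∃ a, PowerSeries.X ^ N ∣ f - h a := by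
    intro i
    obtain ⟨_, _⟩ := hR i
    let ι : A' →+* R i := algebraMap A' (R i)
    letI : Algebra k (R i) := (ι.comp (algebraMap k A')).toAlgebra
    let e := IsLocalization.AtPrime.equivQuotMaximalIdeal (σ i).asIdeal (R i)
    have hk : Function.Surjective (algebraMap k (ResidueField (R i))) := by
      intro z
      obtain ⟨a, ha⟩ := hsurj (σ i) (e.symm z)
      obtain ⟨c, hc⟩ := hres.2 (residue A a)
      refine ⟨c, ?_⟩
      have h1 : algebraMap k A c - a ∈ maximalIdeal A := Ideal.Quotient.eq.mp hc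
      have h2 : algebraMap A (A' ⧸ (σ i).asIdeal) (algebraMap k A c) = algebraMap A _ a := by
        rw [← sub_eq_zero, ← map_sub]
        rw [← (isMaximal_iff A).mp (Ideal.isMaximal_comap_of_isIntegral_of_isMaximal (R := A) (σ i).asIdeal)] at h1
        exact Ideal.Quotient.eq_zero_iff_mem.mpr h1
      have h3 := congrArg e (h2.trans ha)
      rw [RingEquiv.apply_symm_apply] at h3
      exact (IsLocalization.AtPrime.equivQuotMaximalIdeal_apply_mk (σ i).asIdeal (R i)
        (algebraMap A A' (algebraMap k A c))).symm.trans h3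
    obtain ⟨h, hC, hiff, hdense⟩ := exists_expansion k (R i) hk
    have hpow : ∀ (N : ℕ) (a : A'), ι a ∈ maximalIdeal (R i) ^ N ↔ a ∈ (σ i).asIdeal ^ N :=
      mem_pow_maximalIdeal_iff (σ i).asIdeal (R i)
    refine ⟨h.comp ι, fun c => hC c, fun N a => (hpow N a).symm.trans (hiff N _), fun N f => ?_⟩
    obtain ⟨z, hz⟩ := hdense N f
    obtain ⟨w, h1⟩ := exists_sub_mem_pow (σ i).asIdeal (R i) N z
    refine ⟨w, ?_⟩
    have h2 := (hiff N _).mp h1
    rw [map_sub] at h2
    simpa using dvd_add hz h2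
  choose h hC hiff hdense using hexp
  let ψ : A →+* (Fin n → PowerSeries k) := (RingHom.pi h).comp (algebraMap A A')
  have hconst : ∀ c, ψ (algebraMap k A c) = fun _ => PowerSeries.C c := fun c => funext fun i => hC i c
  -- the radical of the normalization is the image of the maximal ideal
  have hinj : Function.Injective (algebraMap A A') := fun x y hxy =>
    IsFractionRing.injective A (FractionRing A) (congrArg Subtype.val hxy)
  let J : Ideal A' := ⨅ i, (σ i).asIdeal
  have hJ : ∀ b : A', b ∈ J ↔ ∃ a ∈ maximalIdeal A, algebraMap A A' a = b := by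
    intro b
    constructor
    · intro hb
      rw [Ideal.mem_iInf] at hb
      obtain ⟨a, ha⟩ := hrad b ⟨0, fun M => by
        rw [map_zero, sub_zero, ← σ.apply_symm_apply M]; exact hb _⟩
      refine ⟨a, ?_, ha⟩
      obtain ⟨i⟩ : Nonempty (Fin n) := by
        obtain ⟨M, hM⟩ := Ideal.exists_maximal A'
        exact ⟨σ.symm ⟨M, hM⟩⟩
      rw [← (isMaximal_iff A).mp (Ideal.isMaximal_comap_of_isIntegral_of_isMaximal (R := A) (σ i).asIdeal),
        Ideal.mem_comap, ha]
      exact hb i
    · rintro ⟨a, ha, rfl⟩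
      rw [Ideal.mem_iInf]
      intro i
      rw [← (isMaximal_iff A).mp (Ideal.isMaximal_comap_of_isIntegral_of_isMaximal (R := A) (σ i).asIdeal)] at ha
      exact ha
  have hJpow : ∀ (N : ℕ) (b : A'), b ∈ J ^ (N + 1) → ∃ a ∈ maximalIdeal A ^ (N + 1), algebraMap A A' a = b := by
    intro N
    induction N with
    | zero => simpa using fun b hb => (hJ b).mp hb
    | succ N ih =>
      intro b hb
      rw [pow_succ] at hb
      refine Submodule.mul_induction_on hb ?_ ?_
      · intro x hx y hy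
        obtain ⟨a, ha, rfl⟩ := ih x hx
        obtain ⟨c, hc, rfl⟩ := (hJ y).mp hy
        exact ⟨a * c, by rw [pow_succ]; exact Ideal.mul_mem_mul ha hc, map_mul _ _ _⟩
      · rintro x y ⟨a, ha, rfl⟩ ⟨c, hc, rfl⟩
        exact ⟨a + c, add_mem ha hc, map_add _ _ _⟩
  have hmem : ∀ (N : ℕ) (b : A'), b ∈ J ^ N ↔ ∀ i, PowerSeries.X ^ N ∣ h i b := by
    intro N b
    have hJN : J ^ N = ⨅ i, (σ i).asIdeal ^ N := by
      have hco : ∀ i j, i ≠ j → IsCoprime (σ i).asIdeal (σ j).asIdeal := fun i j hij =>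
        Ideal.isCoprime_iff_sup_eq.mpr ((hmax i).coprime_of_ne (hmax j) fun he =>
          hij (σ.injective (MaximalSpectrum.ext he)))
      have h1 : J = ⨅ i ∈ (Finset.univ : Finset (Fin n)), (σ i).asIdeal := by simp [J]
      have h2 : (⨅ i, (σ i).asIdeal ^ N) = ⨅ i ∈ (Finset.univ : Finset (Fin n)), (σ i).asIdeal ^ N := by simp
      rw [h1, h2, ← Ideal.prod_eq_iInf_of_pairwise_isCoprime (fun i _ j _ hij => hco i j hij), ← Finset.prod_pow,
        Ideal.prod_eq_iInf_of_pairwise_isCoprime (fun i _ j _ hij => (hco i j hij).pow)]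
    rw [hJN, Ideal.mem_iInf]
    exact forall_congr' fun i => hiff i N b
  have hker : ∀ (N : ℕ) (a : A), a ∈ maximalIdeal A ^ N ↔ ∀ i, PowerSeries.X ^ N ∣ ψ a i := by
    intro N a
    refine Iff.trans ?_ (hmem N (algebraMap A A' a))
    constructor
    · intro ha
      have hle : (maximalIdeal A).map (algebraMap A A') ≤ J := Ideal.map_le_iff_le_comap.mpr fun x hx =>
        (hJ _).mpr ⟨x, hx, rfl⟩
      have := Ideal.mem_map_of_mem (algebraMap A A') ha
      rw [Ideal.map_pow] at this
      exact Ideal.pow_right_mono hle N this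
    · intro ha
      rcases N with _ | N
      · simp
      · obtain ⟨c, hc, he⟩ := hJpow N _ ha
        rwa [← hinj he]
  have hcommon : ∀ (a : A) (i j : Fin n),
      PowerSeries.constantCoeff (ψ a i) = PowerSeries.constantCoeff (ψ a j) := by
    intro a
    obtain ⟨c, hc⟩ := hres.2 (residue A a)
    have h1 : a - algebraMap k A c ∈ maximalIdeal A ^ 1 := by
      rw [pow_one]; exact Ideal.Quotient.eq.mp hc.symm
    have key : ∀ i, PowerSeries.constantCoeff (ψ a i) = c := fun i => by
      have h2 := (hker 1 _).mp h1 i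
      rw [pow_one, map_sub, Pi.sub_apply, PowerSeries.X_dvd_iff, map_sub, sub_eq_zero, hconst] at h2
      rw [h2, PowerSeries.constantCoeff_C]
    exact fun i j => (key i).trans (key j).symm
  refine ⟨ψ, hconst, hker, hcommon, fun f hf N => ?_⟩
  choose w hw using fun i => hdense i (N + 1) (f i)
  obtain ⟨b, hb⟩ := Ideal.pi_quotient_surjective
    (I := fun i => (σ i).asIdeal ^ (N + 1))
    (fun i j hij => (Ideal.isCoprime_iff_sup_eq.mpr ((hmax i).coprime_of_ne (hmax j) fun he =>
          hij (σ.injective (MaximalSpectrum.ext he)))).pow) fun i => Ideal.Quotient.mk _ (w i)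
  have hbd : ∀ i, PowerSeries.X ^ (N + 1) ∣ f i - h i b := fun i => by
    have h1 := (hiff i (N + 1) (w i - b)).mp (Ideal.Quotient.eq.mp (hb i).symm)
    rw [map_sub] at h1
    simpa using dvd_add (hw i) h1
  obtain ⟨i₀⟩ : Nonempty (Fin n) := by
    obtain ⟨M, hM⟩ := Ideal.exists_maximal A'
    exact ⟨σ.symm ⟨M, hM⟩⟩
  let c₀ := PowerSeries.constantCoeff (f i₀)
  obtain ⟨a, ha⟩ := hrad b ⟨algebraMap k A c₀, fun M => by
    rw [← σ.apply_symm_apply M, ← pow_one (σ (σ.symm M)).asIdeal, hiff, pow_one, map_sub,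
      show h (σ.symm M) (algebraMap A A' (algebraMap k A c₀)) = PowerSeries.C c₀ from hC _ c₀,
      PowerSeries.X_dvd_iff, map_sub, PowerSeries.constantCoeff_C, sub_eq_zero]
    have h1 := (pow_dvd_pow PowerSeries.X (Nat.succ_pos N)).trans (hbd (σ.symm M))
    rw [pow_one, PowerSeries.X_dvd_iff, map_sub, sub_eq_zero] at h1
    rw [← h1, hf]⟩
  refine ⟨a, fun i => (pow_dvd_pow PowerSeries.X N.le_succ).trans ?_⟩
  show PowerSeries.X ^ (N + 1) ∣ f i - h i (algebraMap A A' a)
  rw [ha]
  exact hbd i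

end Groth.Agent.H06Wedge
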