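import Mathlib
import Groth.Agent.H06Wedge.Forward
import Groth.Agent.H06Wedge.MvCross

/-! The completion and the tangent space of a wedge. -/

set_option autoImplicit false
set_option linter.style.haveILetI false
universe u

open IsLocalRing

namespace Groth.Agent.H06Wedge

theorem exists_equiv_multicross (k : Type u) [Field k] (A : Type u) [CommRing A] [IsLocalRing A] [Algebra k A]
    {m : ℕ} [NeZero m] (ψ : A →+* (Fin m → PowerSeries k))
    (hconst : ∀ c, ψ (algebraMap k A c) = fun _ => PowerSeries.C c)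
    (hker : ∀ (N : ℕ) (a : A), a ∈ maximalIdeal A ^ N ↔ ∀ i, PowerSeries.X ^ N ∣ ψ a i)
    (hcommon : ∀ (a : A) (i j : Fin m), PowerSeries.constantCoeff (ψ a i) = PowerSeries.constantCoeff (ψ a j))
    (hdense : ∀ f : Fin m → PowerSeries k, (∀ i j, PowerSeries.constantCoeff (f i) = PowerSeries.constantCoeff (f j)) →
      ∀ N : ℕ, ∃ a, ∀ i, PowerSeries.X ^ N ∣ f i - ψ a i) :
    ∃ e : AdicCompletion (maximalIdeal A) A ≃+*
        (MvPowerSeries (Fin m) k ⧸ Ideal.span {f : MvPowerSeries (Fin m) k |
          ∃ i j : Fin m, i ≠ j ∧ f = MvPowerSeries.X i * MvPowerSeries.X j}),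
      ∀ c : k, e (algebraMap A (AdicCompletion (maximalIdeal A) A) (algebraMap k A c)) =
        Ideal.Quotient.mk _ (MvPowerSeries.C c) := by
  obtain ⟨φ, hof, hinj, hrange⟩ := exists_completion_map (maximalIdeal A) ψ hker
  obtain ⟨θ, hθC, hθker, hθrange⟩ := exists_axes k m
  have hH : ∀ x ∈ Ideal.span {f : MvPowerSeries (Fin m) k |
      ∃ i j : Fin m, i ≠ j ∧ f = MvPowerSeries.X i * MvPowerSeries.X j}, θ x = 0 :=
    fun x hx => RingHom.mem_ker.mp (hθker.ge hx)
  let η := Ideal.Quotient.lift _ θ hH
  have hη : Function.Injective η := RingHom.lift_injective_of_ker_le_ideal _ hH hθker.le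
  have hS : Set.range φ = Set.range η := by
    have h1 : Set.range η = Set.range θ := by
      ext f
      constructor
      · rintro ⟨z, rfl⟩
        obtain ⟨F, rfl⟩ := Ideal.Quotient.mk_surjective z
        exact ⟨F, rfl⟩
      · rintro ⟨F, rfl⟩
        exact ⟨Ideal.Quotient.mk _ F, rfl⟩
    rw [h1, hθrange, hrange]
    ext f
    refine ⟨fun hf i j => ?_, fun hf N => hdense f hf N⟩
    obtain ⟨a, ha⟩ := hf 1
    have h : ∀ l, PowerSeries.constantCoeff (f l) = PowerSeries.constantCoeff (ψ a l) := fun l => by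
      have := ha l
      rwa [pow_one, PowerSeries.X_dvd_iff, map_sub, sub_eq_zero] at this
    rw [h i, h j, hcommon a i j]
  have hS' : φ.range = η.range := SetLike.coe_injective (by rw [RingHom.coe_range, RingHom.coe_range]; exact hS)
  let e₁ := RingEquiv.ofBijective φ.rangeRestrict ⟨fun a b h => hinj (congrArg Subtype.val h), φ.rangeRestrict_surjective⟩
  let e₂ := RingEquiv.ofBijective η.rangeRestrict ⟨fun a b h => hη (congrArg Subtype.val h), η.rangeRestrict_surjective⟩
  refine ⟨(e₁.trans (RingEquiv.subringCongr hS')).trans e₂.symm, fun c => ?_⟩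
  refine e₂.symm_apply_eq.mpr (Subtype.ext ?_)
  show φ _ = η (Ideal.Quotient.mk _ (MvPowerSeries.C c))
  rw [hof, hconst]
  exact ((Ideal.Quotient.lift_mk _ θ hH).trans (hθC c)).symm

/-- The tangent space of a wedge of `m` branches has dimension `m`. -/
theorem finrank_cotangent (k : Type u) [Field k] (A : Type u) [CommRing A] [IsLocalRing A] [Algebra k A]
    (hres : Function.Bijective (algebraMap k (ResidueField A))) (m : ℕ) (ψ : A →+* (Fin m → PowerSeries k))
    (hconst : ∀ c, ψ (algebraMap k A c) = fun _ => PowerSeries.C c)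
    (hker : ∀ (N : ℕ) (a : A), a ∈ maximalIdeal A ^ N ↔ ∀ i, PowerSeries.X ^ N ∣ ψ a i)
    (hdense : ∀ f : Fin m → PowerSeries k, (∀ i j, PowerSeries.constantCoeff (f i) = PowerSeries.constantCoeff (f j)) →
      ∀ N : ℕ, ∃ a, ∀ i, PowerSeries.X ^ N ∣ f i - ψ a i) :
    Module.finrank (ResidueField A) (CotangentSpace A) = m := by
  let κ := ResidueField A
  let ι : k →+* κ := algebraMap k κ
  have hm0 : ∀ x ∈ maximalIdeal A, ∀ i, PowerSeries.constantCoeff (ψ x i) = 0 := fun x hx i => by
    have := (hker 1 x).mp (by rw [pow_one]; exact hx) i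
    rwa [pow_one, PowerSeries.X_dvd_iff] at this
  have hres' : ∀ (a : A) i, ι (PowerSeries.constantCoeff (ψ a i)) = residue A a := fun a i => by
    obtain ⟨c, hc⟩ := hres.2 (residue A a)
    have h1 := hm0 (a - algebraMap k A c) (Ideal.Quotient.eq.mp hc.symm) i
    rw [map_sub, Pi.sub_apply, map_sub, sub_eq_zero, hconst, PowerSeries.constantCoeff_C] at h1
    rw [h1]
    exact hc
  let L : (maximalIdeal A) →ₗ[A] (Fin m → κ) :=
    { toFun := fun x i => ι (PowerSeries.coeff 1 (ψ x i))
      map_add' := fun x y => funext fun i => by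
        simp only [Submodule.coe_add, map_add, Pi.add_apply]
      map_smul' := fun a x => funext fun i => by
        show ι (PowerSeries.coeff 1 (ψ (a * x) i)) = residue A a * ι (PowerSeries.coeff 1 (ψ x i))
        rw [map_mul, Pi.mul_apply, PowerSeries.coeff_one_mul, hm0 x x.2 i, mul_zero, zero_add, map_mul, hres',
          mul_comm] }
  have hLs : Function.Surjective L := fun w => by
    choose v hv using fun i => hres.2 (w i)
    obtain ⟨a, ha⟩ := hdense (fun i => PowerSeries.C (v i) * PowerSeries.X) (fun i j => by simp) 2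
    have hc : ∀ i d, d < 2 → PowerSeries.coeff d (ψ a i) = PowerSeries.coeff d (PowerSeries.C (v i) * PowerSeries.X) :=
      fun i d hd => by
        have h := PowerSeries.X_pow_dvd_iff.mp (ha i) d hd
        rw [map_sub, sub_eq_zero] at h
        exact h.symm
    have ham : a ∈ maximalIdeal A := by
      rw [← pow_one (maximalIdeal A), hker]
      intro i
      rw [pow_one, PowerSeries.X_dvd_iff, ← PowerSeries.coeff_zero_eq_constantCoeff_apply, hc i 0 (by omega)]
      simp
    refine ⟨⟨a, ham⟩, funext fun i => ?_⟩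
    show ι (PowerSeries.coeff 1 (ψ a i)) = w i
    rw [hc i 1 (by omega)]
    rw [PowerSeries.coeff_C_mul, PowerSeries.coeff_one_X, mul_one]
    exact hv i
  have hLk : LinearMap.ker L = maximalIdeal A • (⊤ : Submodule A (maximalIdeal A)) := by
    ext x
    rw [LinearMap.mem_ker, Submodule.mem_smul_top_iff, smul_eq_mul, ← pow_two, hker]
    constructor
    · intro h i
      rw [PowerSeries.X_pow_dvd_iff]
      intro d hd
      rcases d with _ | _ | d
      · rw [PowerSeries.coeff_zero_eq_constantCoeff_apply]; exact hm0 x x.2 i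
      · exact ι.injective ((congrFun h i).trans (map_zero ι).symm)
      · omega
    · intro h
      funext i
      show ι (PowerSeries.coeff 1 (ψ x i)) = 0
      rw [PowerSeries.X_pow_dvd_iff.mp (h i) 1 (by omega), map_zero]
  let E : CotangentSpace A ≃ₗ[A] (Fin m → κ) :=
    (Submodule.quotEquivOfEq _ _ hLk).symm.trans (LinearMap.quotKerEquivOfSurjective L hLs)
  let E' : CotangentSpace A ≃ₗ[κ] (Fin m → κ) :=
    LinearEquiv.extendScalarsOfSurjective (S := κ) (residue_surjective) E
  rw [E'.finrank_eq, Module.finrank_fin_fun]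

end Groth.Agent.H06Wedge
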